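import Cfsg.Agent.H377.Sign
import Cfsg.Agent.S2619

/-!
# Types of even-dimensional quadratic spaces over a finite field, all characteristics (helper377)

* `bin_congr_all` : anisotropic binary forms `z₁² + a z₁ z₂ + b z₂²` are isometric;
* `exists_plus`, `exists_minus` : a nondegenerate form of dimension `2m` with `HasSign Q m ε` is isometric to the
  standard form of type `ε`.
-/

set_option autoImplicit false
set_option linter.unusedSectionVars false
set_option linter.style.haveILetI false

namespace Cfsg.Agent.H377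

open QuadraticMap
open Cfsg.Agent.LieClassical.OrthCore Cfsg.Agent.LieClassical.OrthForms
open Cfsg.Agent.H403.Classify

section

variable {F : Type*} [Field F]

theorem iso_of_basis {ι V W : Type*} [Fintype ι] [AddCommGroup V] [Module F V] [AddCommGroup W] [Module F W]
    (b : Module.Basis ι F V) (c : Module.Basis ι F W) (Q : QuadraticForm F V) (Q' : QuadraticForm F W)
    (h1 : ∀ i, Q (b i) = Q' (c i)) (h2 : ∀ i j, polar Q (b i) (b j) = polar Q' (c i) (c j)) :
    ∀ u, Q ((c.equiv b (Equiv.refl ι)) u) = Q' u := by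
  set e := c.equiv b (Equiv.refl ι) with he
  have hec : ∀ i, e (c i) = b i := fun i => by
    rw [he, Module.Basis.equiv_apply]
    rfl
  have h3 : Q.comp (e : W →ₗ[F] V) = Q' := by
    refine Cfsg.Agent.S2619.eq_of_polar_eq c _ _ ?_ ?_
    · refine LinearMap.BilinForm.ext_basis c fun i j => ?_
      have h4 := h2 i j
      rw [← hec i, ← hec j] at h4
      have h5 : polar (Q.comp (e : W →ₗ[F] V)) (c i) (c j) = polar Q (e (c i)) (e (c j)) := by
        simp only [polar, QuadraticMap.comp_apply, LinearEquiv.coe_coe, map_add]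
      rw [polarBilin_apply_apply, polarBilin_apply_apply, h5, h4]
    · intro i
      rw [QuadraticMap.comp_apply, LinearEquiv.coe_coe, hec, h1]
  intro u
  rw [← h3]
  rfl

/-- completing the square -/
theorem bin_odd (h2 : (2 : F) ≠ 0) (a b : F) (z : Fin 2 → F) :
    bin a b z = (z 0 + a / 2 * z 1) ^ 2 - (a ^ 2 / 4 - b) * z 1 ^ 2 := by
  have h4 : (4 : F) ≠ 0 := by
    have : (4 : F) = 2 * 2 := by norm_num
    rw [this]
    exact mul_ne_zero h2 h2
  rw [bin]
  field_simp
  ring

theorem not_isSquare_of_aniso (h2 : (2 : F) ≠ 0) {a b : F} (h : Aniso a b) : ¬ IsSquare (a ^ 2 / 4 - b) := by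
  rintro ⟨s, hs⟩
  have h1 := h (s - a / 2) 1 (by
    have h3 := bin_odd h2 a b ![s - a / 2, 1]
    have h4 : bin a b ![s - a / 2, 1] = (s - a / 2) ^ 2 + a * (s - a / 2) * 1 + b * 1 ^ 2 := rfl
    rw [← h4, h3]
    simp only [Matrix.cons_val_zero, Matrix.cons_val_one, mul_one, one_pow, sub_add_cancel]
    rw [hs]
    ring)
  exact one_ne_zero h1.2

variable [Finite F]

theorem bin_congr_odd (h2 : (2 : F) ≠ 0) {a b a' b' : F} (h : Aniso a b) (h' : Aniso a' b') :
    ∃ e : (Fin 2 → F) ≃ₗ[F] (Fin 2 → F), ∀ z, bin a b (e z) = bin a' b' z := by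
  classical
  letI := Fintype.ofFinite F
  have hs := not_isSquare_of_aniso h2 h
  have hs' := not_isSquare_of_aniso h2 h'
  have hF : ringChar F ≠ 2 := by
    intro hc
    apply h2
    have := ringChar.Nat.cast_ringChar (R := F)
    rw [hc] at this
    exact_mod_cast this
  have hd0 : a ^ 2 / 4 - b ≠ 0 := by
    intro h0
    apply hs
    rw [h0]
    exact ⟨0, by ring⟩
  have hd0' : a' ^ 2 / 4 - b' ≠ 0 := by
    intro h0
    apply hs'
    rw [h0]
    exact ⟨0, by ring⟩
  obtain ⟨c, hc⟩ : IsSquare ((a' ^ 2 / 4 - b') / (a ^ 2 / 4 - b)) := by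
    rw [← quadraticChar_one_iff_isSquare (div_ne_zero hd0' hd0), div_eq_mul_inv, map_mul]
    have e1 : quadraticChar F (a' ^ 2 / 4 - b') = -1 := (quadraticChar_neg_one_iff_not_isSquare).2 hs'
    have e2 : quadraticChar F (a ^ 2 / 4 - b)⁻¹ = -1 := by
      rw [quadraticChar_neg_one_iff_not_isSquare]
      rw [isSquare_inv]
      exact hs
    rw [e1, e2]
    norm_num
  have hc' : a' ^ 2 / 4 - b' = c * c * (a ^ 2 / 4 - b) := by
    rw [← hc, div_mul_cancel₀ _ hd0]
  have hc0 : c ≠ 0 := by
    rintro rfl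
    apply hd0'
    rw [hc']
    ring
  let e : (Fin 2 → F) ≃ₗ[F] (Fin 2 → F) :=
    { toFun := fun z => ![z 0 + a' / 2 * z 1 - a / 2 * (c * z 1), c * z 1]
      invFun := fun w => ![w 0 + a / 2 * w 1 - a' / 2 * (c⁻¹ * w 1), c⁻¹ * w 1]
      map_add' := fun z w => by
        funext i
        fin_cases i
        · simp only [Pi.add_apply, Fin.zero_eta, Matrix.cons_val_zero]
          ring
        · simp only [Pi.add_apply, Fin.mk_one, Matrix.cons_val_one, Matrix.cons_val_fin_one]
          ring
      map_smul' := fun t z => by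
        funext i
        fin_cases i
        · simp only [Pi.smul_apply, smul_eq_mul, Fin.zero_eta, Matrix.cons_val_zero, RingHom.id_apply]
          ring
        · simp only [Pi.smul_apply, smul_eq_mul, Fin.mk_one, Matrix.cons_val_one, Matrix.cons_val_fin_one, RingHom.id_apply]
          ring
      left_inv := fun z => by
        funext i
        fin_cases i
        · simp only [Fin.zero_eta, Matrix.cons_val_zero, Matrix.cons_val_one, Matrix.cons_val_fin_one]
          field_simp
          ring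
        · simp only [Fin.mk_one, Matrix.cons_val_one, Matrix.cons_val_fin_one]
          field_simp
      right_inv := fun z => by
        funext i
        fin_cases i
        · simp only [Fin.zero_eta, Matrix.cons_val_zero, Matrix.cons_val_one, Matrix.cons_val_fin_one]
          field_simp
          ring
        · simp only [Fin.mk_one, Matrix.cons_val_one, Matrix.cons_val_fin_one]
          field_simp }
  refine ⟨e, fun z => ?_⟩
  have he0 : e z 0 = z 0 + a' / 2 * z 1 - a / 2 * (c * z 1) := rfl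
  have he1 : e z 1 = c * z 1 := rfl
  rw [bin_odd h2, bin_odd h2, he0, he1, hc']
  ring

/-- **anisotropic binary forms are isometric** -/
theorem bin_congr_all {a b a' b' : F} (h : Aniso a b) (h' : Aniso a' b') :
    ∃ e : (Fin 2 → F) ≃ₗ[F] (Fin 2 → F), ∀ z, bin a b (e z) = bin a' b' z := by
  by_cases h2 : (2 : F) = 0
  · haveI : CharP F 2 := by
      refine ⟨fun x => ?_⟩
      have := CharP.cast_eq_zero_iff F (ringChar F) x
      have h3 : ringChar F = 2 := by
        have h4 : ringChar F ∣ 2 := (ringChar.spec F 2).1 (by exact_mod_cast h2)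
        have h5 : ringChar F ≠ 1 := CharP.ringChar_ne_one
        exact ((Nat.dvd_prime Nat.prime_two).1 h4).resolve_left h5
      rw [h3] at this
      exact this
    exact bin_congr h h'
  · exact bin_congr_odd h2 h h'

theorem minus_congr (m : ℕ) {a b a' b' : F} (h : Aniso a b) (h' : Aniso a' b') :
    ∃ e : ((Fin m ⊕ Fin m) ⊕ Fin 2 → F) ≃ₗ[F] ((Fin m ⊕ Fin m) ⊕ Fin 2 → F),
      ∀ u, Cfsg.quadFormMinus m F a b (e u) = Cfsg.quadFormMinus m F a' b' u := by
  obtain ⟨f, hf⟩ := bin_congr_all h h'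
  let G : ((Fin m ⊕ Fin m) ⊕ Fin 2 → F) ≃ₗ[F] ((Fin m ⊕ Fin m) ⊕ Fin 2 → F) :=
    ((LinearEquiv.sumArrowLequivProdArrow (Fin m ⊕ Fin m) (Fin 2) F F).trans
      ((LinearEquiv.refl F (Fin m ⊕ Fin m → F)).prodCongr f)).trans
      (LinearEquiv.sumArrowLequivProdArrow (Fin m ⊕ Fin m) (Fin 2) F F).symm
  refine ⟨G, fun u => ?_⟩
  rw [quadFormMinus_apply, quadFormMinus_apply]
  have h1 := hf (fun i => u (.inr i))
  rw [bin, bin] at h1
  have h2 : ∀ i, G u (.inl i) = u (.inl i) := fun i => rfl
  have h3 : ∀ i, G u (.inr i) = f (fun i => u (.inr i)) i := fun i => rfl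
  simp only [h2, h3]
  rw [h1]

theorem aniso_of_root {ζ : F} (h : ∀ t : F, t ^ 2 + t + ζ ≠ 0) : Aniso (1 : F) ζ := by
  intro z₁ z₂ hz
  by_cases h2 : z₂ = 0
  · subst h2
    refine ⟨?_, rfl⟩
    have : z₁ ^ 2 = 0 := by linear_combination hz
    exact (pow_eq_zero_iff two_ne_zero).1 this
  · exfalso
    apply h (z₁ / z₂)
    field_simp
    linear_combination hz

theorem polar_self' {V : Type*} [AddCommGroup V] [Module F V] (Q : QuadraticForm F V) (x : V) :
    polar Q x x = 2 * Q x := by
  rw [QuadraticMap.polar_self, two_smul, two_mul]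

/-- plus or minus -/
theorem classify_all {V : Type*} [AddCommGroup V] [Module F V] [FiniteDimensional F V] {m : ℕ} (hm : 1 ≤ m)
    (hV : Module.finrank F V = 2 * m) (Q : QuadraticForm F V) (hQ : Nondeg Q) :
    (∃ e : (Fin m ⊕ Fin m → F) ≃ₗ[F] V, ∀ u, Q (e u) = Cfsg.quadFormPlus m F u) ∨
    (∃ ζ : F, Aniso 1 ζ ∧ ∃ e : ((Fin (m - 1) ⊕ Fin (m - 1)) ⊕ Fin 2 → F) ≃ₗ[F] V,
      ∀ u, Q (e u) = Cfsg.quadFormMinus (m - 1) F 1 ζ u) := by
  rcases Cfsg.Agent.S2616.result hm hV Q (nondegenerate_of_nondeg hQ) with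
    ⟨b, h1, h2, h3⟩ | ⟨b, ζ, hζ, h1, h2, h3, h4, h5, h6, h7⟩
  · left
    refine ⟨(Pi.basisFun F (Fin m ⊕ Fin m)).equiv b (Equiv.refl _), ?_⟩
    have key := iso_of_basis b (Pi.basisFun F (Fin m ⊕ Fin m)) Q (plusForm m F) ?_ ?_
    · intro u
      rw [key u, coe_plusForm]
    · intro i
      rw [coe_plusForm, quadFormPlus_apply]
      rcases i with i | i
      · rw [(h1 i).1]
        simp [Pi.basisFun_apply]
      · rw [(h1 i).2]
        simp [Pi.basisFun_apply]
    · intro i j
      rw [polar_plusForm]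
      rcases i with i | i <;> rcases j with j | j
      · rw [(h3 i j).1]
        simp [Pi.basisFun_apply]
      · rw [h2 i j]
        simp [Pi.basisFun_apply, Pi.single_apply, Finset.sum_ite_eq, eq_comm]
      · rw [polar_comm, h2 j i]
        simp [Pi.basisFun_apply, Pi.single_apply, Finset.sum_ite_eq, eq_comm]
      · rw [(h3 i j).2]
        simp [Pi.basisFun_apply]
  · right
    refine ⟨ζ, aniso_of_root hζ, (Pi.basisFun F ((Fin (m - 1) ⊕ Fin (m - 1)) ⊕ Fin 2)).equiv b (Equiv.refl _), ?_⟩
    have key := iso_of_basis b (Pi.basisFun F ((Fin (m - 1) ⊕ Fin (m - 1)) ⊕ Fin 2)) Q (minusForm (m - 1) F 1 ζ) ?_ ?_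
    · intro u
      rw [key u, coe_minusForm]
    · intro i
      rw [coe_minusForm, quadFormMinus_apply]
      rcases i with (i | i) | i
      · rw [(h1 i).1]
        simp [Pi.basisFun_apply]
      · rw [(h1 i).2]
        simp [Pi.basisFun_apply]
      · fin_cases i
        · change Q (b (Sum.inr 0)) = _
          rw [h5]
          simp [Pi.basisFun_apply]
        · change Q (b (Sum.inr 1)) = _
          rw [h7]
          simp [Pi.basisFun_apply]
    · intro i j
      rw [polar_minusForm]
      rcases i with (i | i) | i <;> rcases j with (j | j) | j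
      · rw [(h3 i j).1]
        simp [Pi.basisFun_apply]
      · rw [h2 i j]
        simp [Pi.basisFun_apply, Pi.single_apply, Finset.sum_ite_eq, eq_comm]
      · rw [(h4 i j).1]
        simp [Pi.basisFun_apply]
      · rw [polar_comm, h2 j i]
        simp [Pi.basisFun_apply, Pi.single_apply, Finset.sum_ite_eq, eq_comm]
      · rw [(h3 i j).2]
        simp [Pi.basisFun_apply]
      · rw [(h4 i j).2]
        simp [Pi.basisFun_apply]
      · rw [polar_comm, (h4 j i).1]
        simp [Pi.basisFun_apply]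
      · rw [polar_comm, (h4 j i).2]
        simp [Pi.basisFun_apply]
      · fin_cases i <;> fin_cases j
        · change polar Q (b (Sum.inr 0)) (b (Sum.inr 0)) = _
          rw [polar_self', h5]
          simp [Pi.basisFun_apply]
        · change polar Q (b (Sum.inr 0)) (b (Sum.inr 1)) = _
          rw [h6]
          simp [Pi.basisFun_apply]
        · change polar Q (b (Sum.inr 1)) (b (Sum.inr 0)) = _
          rw [polar_comm, h6]
          simp [Pi.basisFun_apply]
        · change polar Q (b (Sum.inr 1)) (b (Sum.inr 1)) = _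
          rw [polar_self', h7]
          simp [Pi.basisFun_apply]
          try ring

theorem hasSign_quadFormPlus (m : ℕ) : HasSign (Cfsg.quadFormPlus m F) m 1 := by
  rw [← coe_plusForm]
  exact hasSign_plusForm m

theorem hasSign_quadFormMinus (m : ℕ) {a b : F} (hab : Aniso a b) : HasSign (Cfsg.quadFormMinus m F a b) (m + 1) (-1) := by
  rw [← coe_minusForm]
  exact hasSign_minusForm m hab

/-- **plus type** -/
theorem exists_plus {V : Type*} [AddCommGroup V] [Module F V] [Finite V] {m : ℕ} (hm : 1 ≤ m)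
    (hV : Module.finrank F V = 2 * m) (Q : QuadraticForm F V) (hQ : Nondeg Q) (hs : HasSign (⇑Q) m 1) :
    ∃ e : (Fin m ⊕ Fin m → F) ≃ₗ[F] V, ∀ u, Q (e u) = Cfsg.quadFormPlus m F u := by
  haveI : FiniteDimensional F V := Module.Finite.of_finite
  rcases classify_all hm hV Q hQ with h | ⟨ζ, hζ, e, he⟩
  · exact h
  · exfalso
    have h1 := ((hasSign_quadFormMinus (F := F) (m - 1) hζ).congr e.toEquiv he)
    have h2 := (hs.sign_eq h1 (Or.inl rfl) (Or.inr rfl)).1
    omega

/-- **minus type** -/
theorem exists_minus {V : Type*} [AddCommGroup V] [Module F V] [Finite V] {m : ℕ} (hm : 1 ≤ m)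
    (hV : Module.finrank F V = 2 * m) (Q : QuadraticForm F V) (hQ : Nondeg Q) (hs : HasSign (⇑Q) m (-1)) {a b : F}
    (hab : Aniso a b) :
    ∃ e : ((Fin (m - 1) ⊕ Fin (m - 1)) ⊕ Fin 2 → F) ≃ₗ[F] V, ∀ u, Q (e u) = Cfsg.quadFormMinus (m - 1) F a b u := by
  haveI : FiniteDimensional F V := Module.Finite.of_finite
  rcases classify_all hm hV Q hQ with ⟨e, he⟩ | ⟨ζ, hζ, e, he⟩
  · exfalso
    have h1 := ((hasSign_quadFormPlus (F := F) m).congr e.toEquiv he)
    have h2 := (hs.sign_eq h1 (Or.inr rfl) (Or.inl rfl)).1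
    omega
  · obtain ⟨f, hf⟩ := minus_congr (m - 1) hζ hab
    refine ⟨f.trans e, fun u => ?_⟩
    rw [LinearEquiv.trans_apply, he, hf]

end

end Cfsg.Agent.H377
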