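import Cfsg.Agent.H377.ToOmega
import Cfsg.Agent.H564.Near
import Cfsg.Agent.S0292

/-!
# The odd-dimensional orthogonal groups: primes not adjacent to 2, three-component theorem (helper377)
-/

set_option autoImplicit false
set_option linter.unusedSectionVars false
set_option linter.style.haveILetI false

namespace Cfsg.Agent.H377.OOdd

open Cfsg Cfsg.Agent.H94.PG Cfsg.Agent.H564.NearTwo

section

variable {F : Type*} [Field F] [Finite F]

theorem adj_of_orderOf {G : Type*} [Group G] {a b : ℕ} (ha : a.Prime) (hb : b.Prime) (hab : a ≠ b) {g : G}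
    (hg : orderOf g = a * b) : Adj G a b := by
  have h0 : orderOf g ≠ 0 := by
    rw [hg]
    exact mul_ne_zero ha.ne_zero hb.ne_zero
  exact adj_of_dvd ha hb hab (Commute.refl g) (by rw [hg]; exact dvd_mul_right _ _)
    (by rw [hg]; exact dvd_mul_left _ _) h0 h0

theorem two_ne_zero_of_odd (ho : Odd (Nat.card F)) : (2 : F) ≠ 0 := by
  intro h2
  haveI := charTwo_of h2
  classical
  letI := Fintype.ofFinite F
  haveI : Fact (Nat.Prime 2) := ⟨Nat.prime_two⟩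
  obtain ⟨n, -, hn⟩ := FiniteField.card F 2
  rw [Nat.card_eq_fintype_card, hn] at ho
  exact (Nat.not_even_iff_odd.2 ho) ((Nat.even_pow.2 ⟨even_two, n.ne_zero⟩))

/-- an isometry of order `4`, odd characteristic, any dimension `≥ 2` -/
theorem elt_four' (ho : Odd (Nat.card F)) {n : ℕ} (hn : 1 ≤ n) : ∃ ε : ℤ, (ε = 1 ∨ ε = -1) ∧ Elt F n ε 4 := by
  obtain ⟨ε, hε, h⟩ := elt_four_one ho
  refine ⟨ε, hε, ?_⟩
  have := h.prod (elt_one (F := F) (n - 1))
  rwa [mul_one, Nat.lcm_one_right, show 1 + (n - 1) = n by omega] at this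

theorem elt_of_dvd {i : ℕ} (hi : 1 ≤ i) {u : ℕ} (hu : u.Prime) (hd : u ∣ Nat.card F ^ (2 * i) - 1) :
    Elt F i 1 u ∨ Elt F i (-1) u := by
  rw [mul_comm, pow_mul] at hd
  have h4 : (Nat.card F ^ i) ^ 2 - 1 = (Nat.card F ^ i + 1) * (Nat.card F ^ i - 1) := by
    rw [← Nat.sq_sub_sq, one_pow]
  rw [h4] at hd
  rcases (Nat.Prime.dvd_mul hu).1 hd with h | h
  · exact Or.inr (elt_tor_minus hi h)
  · exact Or.inl (elt_tor_plus hi h)

theorem exists_two_mul (ho : Odd (Nat.card F)) {i j : ℕ} (hj : 1 ≤ j) (hm : 3 ≤ i + j) {u : ℕ}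
    (hu : Odd u) {ε : ℤ} (h : Elt F i ε u) : ∃ g : POmega F (quadFormOdd (i + j) F), orderOf g = u * 2 := by
  obtain ⟨δ, -, h4⟩ := elt_four' ho hj
  have hc : Nat.Coprime u 4 := by
    rw [show (4 : ℕ) = 2 ^ 2 by norm_num]
    exact Nat.Coprime.pow_right 2 (Nat.coprime_two_right.2 hu)
  refine exists_odd_of_elt (two_ne_zero_of_odd ho) hm (h.prod h4) (N := u * 2) fun k => ?_
  rw [hc.lcm_eq_mul, show u * 4 = 2 * (u * 2) by ring]
  exact Nat.mul_dvd_mul_iff_left (by norm_num)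

theorem adj_two_of_dvd (ho : Odd (Nat.card F)) {m i : ℕ} (hm : 3 ≤ m) (hi : 1 ≤ i) (him : i < m) {u : ℕ}
    (hu : u.Prime) (hu2 : u ≠ 2) (hd : u ∣ Nat.card F ^ (2 * i) - 1) : Adj (POmega F (quadFormOdd m F)) u 2 := by
  obtain ⟨j, rfl⟩ : ∃ j, m = i + j := ⟨m - i, by omega⟩
  have huo := hu.eq_two_or_odd'.resolve_left hu2
  rcases elt_of_dvd hi hu hd with h | h
  · obtain ⟨g, hg⟩ := exists_two_mul ho (by omega) hm huo h
    exact adj_of_orderOf hu Nat.prime_two hu2 hg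
  · obtain ⟨g, hg⟩ := exists_two_mul ho (by omega) hm huo h
    exact adj_of_orderOf hu Nat.prime_two hu2 hg

theorem adj_two_of_char (ho : Odd (Nat.card F)) {m : ℕ} (hm : 3 ≤ m) {u : ℕ} (hu : u.Prime) (hu2 : u ≠ 2)
    (hd : u ∣ Nat.card F) : Adj (POmega F (quadFormOdd m F)) u 2 := by
  classical
  letI := Fintype.ofFinite F
  obtain ⟨p, _⟩ := CharP.exists F
  haveI : Fact p.Prime := ⟨CharP.char_is_prime F p⟩
  obtain ⟨a, -, ha⟩ := FiniteField.card F p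
  rw [Nat.card_eq_fintype_card, ha] at hd
  have h1 : u = p := (Nat.prime_dvd_prime_iff_eq hu (Fact.out : p.Prime)).1 (hu.dvd_of_dvd_pow hd)
  subst h1
  obtain ⟨j, rfl⟩ : ∃ j, m = 2 + j := ⟨m - 2, by omega⟩
  obtain ⟨g, hg⟩ := exists_two_mul ho (i := 2) (j := j) (by omega) hm (hu.eq_two_or_odd'.resolve_left hu2)
    (elt_char (F := F) hu le_rfl)
  exact adj_of_orderOf hu Nat.prime_two hu2 hg

/-- **the odd primes not adjacent to 2** -/
theorem info (ho : Odd (Nat.card F)) {m : ℕ} (hm : 3 ≤ m) {u : ℕ} (hu : u.Prime) (hu2 : u ≠ 2)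
    (hd : u ∣ Nat.card (POmega F (quadFormOdd m F))) (hn : ¬ Adj (POmega F (quadFormOdd m F)) u 2) :
    (u ∣ Nat.card F ^ m - 1 ∨ u ∣ Nat.card F ^ m + 1) ∧ ∀ i, 1 ≤ i → i < m → ¬ u ∣ Nat.card F ^ (2 * i) - 1 := by
  classical
  letI := Fintype.ofFinite F
  have h0 : ∀ i, 1 ≤ i → i < m → ¬ u ∣ Nat.card F ^ (2 * i) - 1 := fun i hi him h =>
    hn (adj_two_of_dvd ho hm hi him hu hu2 h)
  refine ⟨?_, h0⟩
  have h1 : u ∣ 2 * Nat.card (POmega F (quadFormOdd m F)) := Dvd.dvd.mul_left hd 2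
  rw [Cfsg.Agent.S0292.result (F := F) rfl (by rwa [← Nat.card_eq_fintype_card]) m hm, ← Nat.card_eq_fintype_card] at h1
  rcases (Nat.Prime.dvd_mul hu).1 h1 with h2 | h2
  · exact absurd (adj_two_of_char ho hm hu hu2 (hu.dvd_of_dvd_pow h2)) hn
  · obtain ⟨i, hi, hi2⟩ := (hu.prime.dvd_finsetProd_iff _).1 h2
    rw [Finset.mem_range] at hi
    rcases Nat.lt_or_ge (i + 1) m with h3 | h3
    · exact absurd hi2 (h0 (i + 1) (by omega) h3)
    · rw [show i + 1 = m by omega, mul_comm, pow_mul] at hi2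
      have h4 : (Nat.card F ^ m) ^ 2 - 1 = (Nat.card F ^ m + 1) * (Nat.card F ^ m - 1) := by
        rw [← Nat.sq_sub_sq, one_pow]
      rw [h4] at hi2
      exact ((Nat.Prime.dvd_mul hu).1 hi2).symm

theorem exists_odd_tor (ho : Odd (Nat.card F)) {m : ℕ} (hm : 3 ≤ m) {N : ℕ} (hN : Odd N) {ε : ℤ} (h : Elt F m ε N) :
    ∃ g : POmega F (quadFormOdd m F), orderOf g = N :=
  exists_odd_of_elt (two_ne_zero_of_odd ho) hm h fun k =>
    (Nat.Coprime.dvd_mul_left (Nat.coprime_two_left.2 hN).symm)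

theorem exists_even_tor (ho : Odd (Nat.card F)) {m : ℕ} (hm : 3 ≤ m) {N : ℕ} {ε : ℤ} (h : Elt F m ε (2 * N)) :
    ∃ g : POmega F (quadFormOdd m F), orderOf g = N :=
  exists_odd_of_elt (two_ne_zero_of_odd ho) hm h fun k => Nat.mul_dvd_mul_iff_left (by norm_num)

theorem adj_minus (ho : Odd (Nat.card F)) {m : ℕ} (hm : 3 ≤ m) {a b : ℕ} (ha : a.Prime) (hb : b.Prime) (ha2 : a ≠ 2)
    (hb2 : b ≠ 2) (hab : a ≠ b) (h1 : a ∣ Nat.card F ^ m - 1) (h2 : b ∣ Nat.card F ^ m - 1) :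
    Adj (POmega F (quadFormOdd m F)) a b := by
  obtain ⟨g, hg⟩ := exists_odd_tor ho hm ((ha.eq_two_or_odd'.resolve_left ha2).mul (hb.eq_two_or_odd'.resolve_left hb2))
    (elt_tor_plus (F := F) (k := m) (by omega) (((Nat.coprime_primes ha hb).2 hab).mul_dvd_of_dvd_of_dvd h1 h2))
  exact adj_of_orderOf ha hb hab hg

theorem adj_plus (ho : Odd (Nat.card F)) {m : ℕ} (hm : 3 ≤ m) {a b : ℕ} (ha : a.Prime) (hb : b.Prime) (ha2 : a ≠ 2)
    (hb2 : b ≠ 2) (hab : a ≠ b) (h1 : a ∣ Nat.card F ^ m + 1) (h2 : b ∣ Nat.card F ^ m + 1) :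
    Adj (POmega F (quadFormOdd m F)) a b := by
  obtain ⟨g, hg⟩ := exists_odd_tor ho hm ((ha.eq_two_or_odd'.resolve_left ha2).mul (hb.eq_two_or_odd'.resolve_left hb2))
    (elt_tor_minus (F := F) (k := m) (by omega) (((Nat.coprime_primes ha hb).2 hab).mul_dvd_of_dvd_of_dvd h1 h2))
  exact adj_of_orderOf ha hb hab hg

theorem coprime_four {a : ℕ} (ha : a.Prime) (ha2 : a ≠ 2) : Nat.Coprime 4 a := by
  rw [show (4 : ℕ) = 2 ^ 2 by norm_num]
  exact Nat.Coprime.pow_left 2 (Nat.coprime_two_left.2 (ha.eq_two_or_odd'.resolve_left ha2))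

theorem adj_minus_two (ho : Odd (Nat.card F)) {m : ℕ} (hm : 3 ≤ m) {a : ℕ} (ha : a.Prime) (ha2 : a ≠ 2)
    (h1 : a ∣ Nat.card F ^ m - 1) (h2 : 4 ∣ Nat.card F ^ m - 1) : Adj (POmega F (quadFormOdd m F)) a 2 := by
  obtain ⟨g, hg⟩ := exists_even_tor ho hm (N := a * 2) (elt_tor_plus (F := F) (k := m) (by omega) (by
    rw [show 2 * (a * 2) = 4 * a by ring]
    exact (coprime_four ha ha2).mul_dvd_of_dvd_of_dvd h2 h1))
  exact adj_of_orderOf ha Nat.prime_two ha2 hg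

theorem adj_plus_two (ho : Odd (Nat.card F)) {m : ℕ} (hm : 3 ≤ m) {a : ℕ} (ha : a.Prime) (ha2 : a ≠ 2)
    (h1 : a ∣ Nat.card F ^ m + 1) (h2 : 4 ∣ Nat.card F ^ m + 1) : Adj (POmega F (quadFormOdd m F)) a 2 := by
  obtain ⟨g, hg⟩ := exists_even_tor ho hm (N := a * 2) (elt_tor_minus (F := F) (k := m) (by omega) (by
    rw [show 2 * (a * 2) = 4 * a by ring]
    exact (coprime_four ha ha2).mul_dvd_of_dvd_of_dvd h2 h1))
  exact adj_of_orderOf ha Nat.prime_two ha2 hg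

/-- **mixed case** -/
theorem mixed (ho : Odd (Nat.card F)) {m : ℕ} (hm : 3 ≤ m) {a b : ℕ} (ha : a.Prime) (hb : b.Prime) (ha2 : a ≠ 2)
    (hb2 : b ≠ 2) (h1 : a ∣ Nat.card F ^ m - 1) (h2 : b ∣ Nat.card F ^ m + 1) :
    Adj (POmega F (quadFormOdd m F)) a 2 ∨ Adj (POmega F (quadFormOdd m F)) b 2 := by
  have hodd : Odd (Nat.card F ^ m) := ho.pow
  have hq : 1 < Nat.card F ^ m := Nat.one_lt_pow (by omega) Finite.one_lt_card
  obtain ⟨k, hk⟩ := hodd
  rcases Nat.even_or_odd k with ⟨l, hl⟩ | ⟨l, hl⟩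
  · left
    exact adj_minus_two ho hm ha ha2 h1 ⟨l, by omega⟩
  · right
    exact adj_plus_two ho hm hb hb2 h2 ⟨l + 1, by omega⟩

/-- **Three-component theorem for `Ω_{2m+1}(q)`, `q` odd, `m ≥ 3`**: two odd primes not adjacent to 2 are adjacent or
equal. -/
theorem three (ho : Odd (Nat.card F)) {m : ℕ} (hm : 3 ≤ m) {a b : ℕ} (ha : a.Prime) (hb : b.Prime) (ha2 : a ≠ 2)
    (hb2 : b ≠ 2) (hda : a ∣ Nat.card (POmega F (quadFormOdd m F))) (hdb : b ∣ Nat.card (POmega F (quadFormOdd m F)))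
    (hna : ¬ Adj (POmega F (quadFormOdd m F)) a 2) (hnb : ¬ Adj (POmega F (quadFormOdd m F)) b 2) :
    a = b ∨ Adj (POmega F (quadFormOdd m F)) a b := by
  by_cases hab : a = b
  · exact Or.inl hab
  right
  obtain ⟨h1, -⟩ := info ho hm ha ha2 hda hna
  obtain ⟨h2, -⟩ := info ho hm hb hb2 hdb hnb
  rcases h1 with h1 | h1 <;> rcases h2 with h2 | h2
  · exact adj_minus ho hm ha hb ha2 hb2 hab h1 h2
  · exfalso
    rcases mixed ho hm ha hb ha2 hb2 h1 h2 with h | h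
    · exact hna h
    · exact hnb h
  · exfalso
    rcases mixed ho hm hb ha hb2 ha2 h2 h1 with h | h
    · exact hnb h
    · exact hna h
  · exact adj_plus ho hm ha hb ha2 hb2 hab h1 h2

/-- the same for a group isomorphic to some `PΩ_{2m+1}(q)` -/
theorem isPOmegaOdd_three {S : Type*} [Group S] (hS : IsPOmegaOdd S) {a b : ℕ} (ha : a.Prime) (hb : b.Prime)
    (hda : a ∣ Nat.card S) (hdb : b ∣ Nat.card S) : Near S a ∨ Near S b ∨ a = b ∨ Adj S a b := by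
  obtain ⟨F, _, _, m, hm, ho, ⟨e⟩⟩ := hS
  rw [← Nat.card_eq_fintype_card] at ho
  have hc : Nat.card S = Nat.card (POmega F (quadFormOdd m F)) := Nat.card_congr e.toEquiv
  rw [hc] at hda hdb
  by_cases ha2 : a = 2
  · exact Or.inl (Or.inl ha2)
  by_cases hb2 : b = 2
  · exact Or.inr (Or.inl (Or.inl hb2))
  by_cases h1 : Adj (POmega F (quadFormOdd m F)) a 2
  · exact Or.inl (.of_adj (h1.map e.symm.toMonoidHom e.symm.injective))
  by_cases h2 : Adj (POmega F (quadFormOdd m F)) b 2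
  · exact Or.inr (Or.inl (.of_adj (h2.map e.symm.toMonoidHom e.symm.injective)))
  rcases three ho hm ha hb ha2 hb2 hda hdb h1 h2 with h | h
  · exact Or.inr (Or.inr (Or.inl h))
  · exact Or.inr (Or.inr (Or.inr (h.map e.symm.toMonoidHom e.symm.injective)))

end

end Cfsg.Agent.H377.OOdd
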