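import Cfsg.Agent.H296.OneElt
import Cfsg.Agent.Lib.HallHigman
import Cfsg.Agent.Lib.Cores
import Cfsg.Agent.BpSpor.Transfer

/-!
# S4329, the row `B`: general lemmas (helper377)

* `comm_of_quot` : in a central extension by a group of order 2 an element of odd order commutes with every element
  commuting with it modulo the centre;
* `four_dvd` : the centralizer of a lift of odd order of an element commuting with an involution has order divisible by 4;
* `fix_of_order` : an element of prime order `l` normalising a `p`-group centralises it, if `l ∤ p ^ k - 1` for the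
  `p ^ k` dividing its order;
* `inCore_of_solvable` : an element of prime order `l` of a solvable centralizer `C(y)` lies in its `p'`-core.
-/

set_option autoImplicit false

namespace Cfsg.Agent.H377.SporB

open Subgroup

section lifts

variable {H : Type*} [Group H] {Z : Subgroup H} [Z.Normal]

theorem comm_of_quot (hZ : Z ≤ center H) (hZ2 : Nat.card ↥Z = 2) {b : H} (hb : Odd (orderOf b)) {g : H}
    (h : (QuotientGroup.mk g : H ⧸ Z) * QuotientGroup.mk b = QuotientGroup.mk b * QuotientGroup.mk g) :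
    g * b = b * g := by
  obtain ⟨z, hz⟩ : ∃ z, z = g * b * g⁻¹ * b⁻¹ := ⟨_, rfl⟩
  have h1 : z ∈ Z := by
    rw [hz, ← QuotientGroup.eq_one_iff]
    show (QuotientGroup.mk g : H ⧸ Z) * QuotientGroup.mk b * (QuotientGroup.mk g)⁻¹ * (QuotientGroup.mk b)⁻¹ = 1
    rw [h]
    group
  have h2 : g * b * g⁻¹ = z * b := by rw [hz]; group
  have hzb : Commute z b := ((mem_center_iff.1 (hZ h1)) b).symm
  have h3 : z ^ orderOf b = 1 := by
    have h4 : (g * b * g⁻¹) ^ orderOf b = 1 := by rw [conj_pow, pow_orderOf_eq_one, mul_one, mul_inv_cancel]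
    rw [h2, hzb.mul_pow, pow_orderOf_eq_one, mul_one] at h4
    exact h4
  have hfin : Finite ↥Z := Nat.finite_of_card_ne_zero (by rw [hZ2]; norm_num)
  have h4 : z ^ 2 = 1 := by
    have := pow_card_eq_one' (x := (⟨z, h1⟩ : ↥Z))
    rw [hZ2] at this
    exact congrArg Subtype.val this
  have h5 : z ^ Nat.gcd (orderOf b) 2 = 1 := pow_gcd_eq_one.2 ⟨h3, h4⟩
  have h6 : Nat.gcd (orderOf b) 2 = 1 := (Nat.coprime_two_right).2 hb
  rw [h6, pow_one] at h5
  rw [h5, one_mul] at h2
  exact mul_inv_eq_iff_eq_mul.1 h2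

theorem four_dvd [Finite H] (hZ : Z ≤ center H) (hZ2 : Nat.card ↥Z = 2) {b : H} (hb : Odd (orderOf b)) {w : H ⧸ Z}
    (hw : orderOf w = 2) (h : w * QuotientGroup.mk b = QuotientGroup.mk b * w) :
    4 ∣ Nat.card ↥(centralizer ({b} : Set H)) := by
  obtain ⟨g, rfl⟩ := QuotientGroup.mk_surjective w
  have hg : g ∈ centralizer ({b} : Set H) := mem_centralizer_singleton_iff.2 (comm_of_quot hZ hZ2 hb h)
  have hZc : Z ≤ centralizer ({b} : Set H) := fun z hz =>
    mem_centralizer_singleton_iff.2 ((mem_center_iff.1 (hZ hz)) b).symm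
  let f : ↥(centralizer ({b} : Set H)) →* H ⧸ Z := (QuotientGroup.mk' Z).comp (centralizer ({b} : Set H)).subtype
  have h1 : Nat.card ↥f.ker = 2 := by
    rw [← hZ2]
    refine Nat.card_congr ⟨fun x => ⟨((x : ↥(centralizer ({b} : Set H))) : H), ?_⟩,
      fun z => ⟨⟨z, hZc z.2⟩, ?_⟩, fun _ => rfl, fun _ => rfl⟩
    · have := x.2
      rw [MonoidHom.mem_ker] at this
      exact (QuotientGroup.eq_one_iff _).1 this
    · rw [MonoidHom.mem_ker]
      exact (QuotientGroup.eq_one_iff _).2 z.2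
  have h2 : 2 ∣ Nat.card ↥f.range := by
    have h3 : (QuotientGroup.mk g : H ⧸ Z) ∈ f.range := ⟨⟨g, hg⟩, rfl⟩
    rw [← hw, ← Subgroup.orderOf_mk _ h3]
    exact orderOf_dvd_natCard _
  have h3 := f.ker.card_mul_index
  rw [Subgroup.index_ker, h1] at h3
  rw [← h3]
  exact Nat.mul_dvd_mul_left 2 h2

/-- Commuting elements `x`, `y` of odd prime orders of `C(t) / Z(C(t))`, `|Z(C(t))| = 2`, where `y` commutes with an
involution: commuting lifts `a`, `b`, and `4` divides `|C(b) ∩ C(t)|`. -/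
theorem exists_lifts_four {M : Type*} [Group M] [Finite M] {t : M} {X : Type*} [Group X]
    (h2 : Nat.card ↥(center ↥(centralizer ({t} : Set M))) = 2)
    (e : ↥(centralizer ({t} : Set M)) ⧸ center ↥(centralizer ({t} : Set M)) ≃* X) {p q : ℕ} (hp : p.Prime)
    (hq : q.Prime) (hp2 : p ≠ 2) (hq2 : q ≠ 2) {x y w : X} (hx : orderOf x = p) (hy : orderOf y = q)
    (hw : orderOf w = 2) (hxy : x * y = y * x) (hwy : w * y = y * w) :
    ∃ a b : M, orderOf a = p ∧ orderOf b = q ∧ a * b = b * a ∧ b * t = t * b ∧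
      4 ∣ Nat.card ↥(centralizer ({b} : Set M) ⊓ centralizer ({t} : Set M)) := by
  obtain ⟨b, hb, hby⟩ := BpSpor.Transfer.exists_lift hq (center ↥(centralizer ({t} : Set M)))
    (by rw [h2]; exact (Nat.coprime_primes Nat.prime_two hq).2 (Ne.symm hq2)) (y := e.symm y)
    (by rw [MulEquiv.orderOf_eq, hy])
  obtain ⟨a, ha, hax⟩ := BpSpor.Transfer.exists_lift hp (center ↥(centralizer ({t} : Set M)))
    (by rw [h2]; exact (Nat.coprime_primes Nat.prime_two hp).2 (Ne.symm hp2)) (y := e.symm x)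
    (by rw [MulEquiv.orderOf_eq, hx])
  have hbo : Odd (orderOf b) := by rw [hb]; exact hq.odd_of_ne_two hq2
  rw [QuotientGroup.mk'_apply] at hby hax
  have hab : a * b = b * a := by
    refine comm_of_quot le_rfl h2 hbo ?_
    rw [hax, hby, ← map_mul, hxy, map_mul]
  have h4 : 4 ∣ Nat.card ↥(centralizer ({b} : Set ↥(centralizer ({t} : Set M)))) := by
    refine four_dvd le_rfl h2 hbo (w := e.symm w) (by rw [MulEquiv.orderOf_eq, hw]) ?_
    rw [hby, ← map_mul, hwy, map_mul]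
  refine ⟨a, b, by rw [Subgroup.orderOf_coe, ha], by rw [Subgroup.orderOf_coe, hb], congrArg Subtype.val hab,
    mem_centralizer_singleton_iff.1 b.2, h4.trans (dvd_of_eq (Nat.card_congr ?_))⟩
  exact
    { toFun := fun c => ⟨((c : ↥(centralizer ({t} : Set M))) : M),
        Subgroup.mem_inf.2 ⟨mem_centralizer_singleton_iff.2
          (congrArg Subtype.val (mem_centralizer_singleton_iff.1 c.2)), c.1.2⟩⟩
      invFun := fun c => ⟨⟨c, (Subgroup.mem_inf.1 c.2).2⟩, mem_centralizer_singleton_iff.2 (Subtype.ext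
        (mem_centralizer_singleton_iff.1 (Subgroup.mem_inf.1 c.2).1))⟩
      left_inv := fun _ => rfl
      right_inv := fun _ => rfl }

end lifts

/-- an element of prime order `l` normalising a `p`-group of order `p ^ n` centralises it, if `l` divides no
`p ^ k - 1`, `1 ≤ k ≤ n` -/
theorem fix_of_order {D : Type*} [Group D] [Finite D] {p l : ℕ} [hp : Fact p.Prime] [hl : Fact l.Prime] (hpl : p ≠ l)
    {Q : Subgroup D} (hQ : IsPGroup p ↥Q) (hdiv : ∀ k, k ≠ 0 → p ^ k ∣ Nat.card ↥Q → ¬ l ∣ p ^ k - 1) {x : D}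
    (hx : x ^ l = 1) (hn : x ∈ normalizer (Q : Set D)) : ∀ y ∈ Q, x * y = y * x := by
  classical
  have hn' : zpowers x ≤ normalizer (Q : Set D) := by rwa [zpowers_le]
  let act : MulAction ↥(zpowers x) ↥Q :=
    { smul := fun z y => ⟨(z : D) * y * (z : D)⁻¹, (mem_normalizer_iff.1 (hn' z.2) y).1 y.2⟩
      one_smul := fun y => Subtype.ext (by show ((1 : ↥(zpowers x)) : D) * y * ((1 : ↥(zpowers x)) : D)⁻¹ = y; simp)
      mul_smul := fun z z' y => Subtype.ext (by
        show ((z * z' : ↥(zpowers x)) : D) * y * ((z * z' : ↥(zpowers x)) : D)⁻¹ =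
          (z : D) * ((z' : D) * y * (z' : D)⁻¹) * (z : D)⁻¹
        simp [mul_assoc]) }
  have hsm : ∀ (z : ↥(zpowers x)) (y : ↥Q), ((z • y : ↥Q) : D) = (z : D) * y * (z : D)⁻¹ := fun _ _ => rfl
  have hlg : IsPGroup l ↥(zpowers x) := by
    obtain ⟨j, -, hj⟩ := (Nat.dvd_prime_pow hl.1).1 (show orderOf x ∣ l ^ 1 by rw [pow_one]; exact orderOf_dvd_of_pow_eq_one hx)
    exact IsPGroup.of_card (n := j) (by rw [Nat.card_zpowers, hj])
  have h1 := hlg.card_modEq_card_fixedPoints (↥Q)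
  -- the fixed points form a subgroup
  let C : Subgroup ↥Q := (centralizer ({x} : Set D)).subgroupOf Q
  have hfix : ∀ y : ↥Q, y ∈ MulAction.fixedPoints ↥(zpowers x) ↥Q ↔ y ∈ C := by
    intro y
    rw [mem_subgroupOf, mem_centralizer_singleton_iff]
    constructor
    · intro h
      have h2 := congrArg Subtype.val (h ⟨x, mem_zpowers x⟩)
      rw [hsm] at h2
      exact (mul_inv_eq_iff_eq_mul.1 h2).symm
    · rintro h ⟨z, m, rfl⟩
      apply Subtype.ext
      rw [hsm]
      have h3 : Commute (x ^ m) (y : D) := (show Commute x (y : D) from h.symm).zpow_left m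
      show x ^ m * y * (x ^ m)⁻¹ = y
      rw [h3.eq, mul_inv_cancel_right]
  have h2 : Nat.card (MulAction.fixedPoints ↥(zpowers x) ↥Q) = Nat.card ↥C :=
    Nat.card_congr (Equiv.subtypeEquivRight hfix)
  rw [h2] at h1
  obtain ⟨a, ha⟩ := IsPGroup.iff_card.1 hQ
  obtain ⟨b, hb⟩ := IsPGroup.iff_card.1 (hQ.to_subgroup C)
  rw [ha, hb] at h1
  have hba : b ≤ a := by
    have h3 := Subgroup.card_subgroup_dvd_card C
    rw [ha, hb] at h3
    exact (Nat.pow_dvd_pow_iff_le_right hp.1.one_lt).1 h3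
  have hab : b = a := by
    by_contra hne
    have h3 : l ∣ p ^ a - p ^ b := (Nat.modEq_iff_dvd' (Nat.pow_le_pow_right hp.1.pos hba)).1 h1.symm
    have h4 : p ^ a - p ^ b = p ^ b * (p ^ (a - b) - 1) := by
      rw [Nat.mul_sub, mul_one, ← pow_add, Nat.add_sub_cancel' hba]
    rw [h4] at h3
    rcases hl.1.dvd_mul.1 h3 with h5 | h5
    · exact hpl ((Nat.prime_dvd_prime_iff_eq hl.1 hp.1).1 (hl.1.dvd_of_dvd_pow h5)).symm
    · exact hdiv (a - b) (by omega) (by rw [ha]; exact pow_dvd_pow _ (by omega)) h5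
  have htop : C = ⊤ := Subgroup.eq_top_of_card_eq _ (by rw [hb, ha, hab])
  intro y hy
  have h3 : (⟨y, hy⟩ : ↥Q) ∈ C := by rw [htop]; trivial
  exact (mem_centralizer_singleton_iff.1 (mem_subgroupOf.1 h3)).symm

/-- **Elements of order `l` of a solvable group lie in the `p'`-core**, if `l` divides no `p ^ k - 1`. -/
theorem mem_pPrimeCore {D : Type*} [Group D] [Finite D] [hs : Group.IsSolvable D] {p l : ℕ} [hp : Fact p.Prime]
    [hl : Fact l.Prime] (hpl : p ≠ l) (hdiv : ∀ k, k ≠ 0 → p ^ k ∣ Nat.card D → ¬ l ∣ p ^ k - 1) {x : D}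
    (hx : x ^ l = 1) : x ∈ Cfsg.pPrimeCore p D := by
  have hN : (Cfsg.pPrimeCore p D).Normal := Lib.HallHigman.pPrimeCore_normal p
  have h0 : Cfsg.pPrimeCore p (D ⧸ Cfsg.pPrimeCore p D) = ⊥ :=
    Lib.Cores.pPrimeCore_quotient_pPrimeCore p
  have h1 := Lib.HallHigman.centralizer_pCore_le_of_solvable p h0
  have hP := Lib.HallHigman.pCore_isPGroup (G := D ⧸ Cfsg.pPrimeCore p D) p
  have hPn := Lib.HallHigman.pCore_normal (G := D ⧸ Cfsg.pPrimeCore p D) p
  have h2 := fix_of_order hpl hP (fun k hk hd => hdiv k hk (hd.trans ((Subgroup.card_subgroup_dvd_card _).trans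
    (Subgroup.card_quotient_dvd_card _)))) (x := (QuotientGroup.mk x : D ⧸ Cfsg.pPrimeCore p D))
    (by rw [← QuotientGroup.mk_pow, hx]; rfl) (by rw [normalizer_eq_top_iff.2 hPn]; trivial)
  have h3 : (QuotientGroup.mk x : D ⧸ Cfsg.pPrimeCore p D) ∈ Cfsg.pCore p (D ⧸ Cfsg.pPrimeCore p D) :=
    h1 (mem_centralizer_iff.2 fun y hy => (h2 y hy).symm)
  obtain ⟨k, hk⟩ := hP ⟨_, h3⟩
  have h4 : (QuotientGroup.mk x : D ⧸ Cfsg.pPrimeCore p D) ^ p ^ k = 1 := congrArg Subtype.val hk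
  have h5 : (QuotientGroup.mk x : D ⧸ Cfsg.pPrimeCore p D) ^ l = 1 := by rw [← QuotientGroup.mk_pow, hx]; rfl
  have h6 := pow_gcd_eq_one.2 ⟨h4, h5⟩
  have h7 : Nat.gcd (p ^ k) l = 1 := Nat.Coprime.pow_left _ ((Nat.coprime_primes hp.1 hl.1).2 hpl)
  rw [h7, pow_one] at h6
  exact (QuotientGroup.eq_one_iff _).1 h6

theorem inCore_of_solvable {K : Type*} [Group K] [Finite K] {p l : ℕ} [hp : Fact p.Prime]
    [hl : Fact l.Prime] (hpl : p ≠ l) (hdiv : ∀ k, k ≠ 0 → p ^ k ∣ Nat.card K → ¬ l ∣ p ^ k - 1) {x y : K}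
    (hx : orderOf x = l) (hxy : x * y = y * x) (hs : Group.IsSolvable ↥(centralizer ({y} : Set K))) :
    H296.OneElt.InCore p x y := by
  have hm : x ∈ centralizer ({y} : Set K) := mem_centralizer_singleton_iff.2 hxy
  refine ⟨hm, Cfsg.pPrimeCore p ↥(centralizer ({y} : Set K)), Lib.HallHigman.pPrimeCore_normal p, ?_,
    mem_pPrimeCore hpl (fun k hk hd => hdiv k hk (hd.trans (Subgroup.card_subgroup_dvd_card _))) ?_⟩
  · intro h
    exact hp.1.one_lt.ne' (Nat.Coprime.eq_one_of_dvd (Lib.HallHigman.pPrimeCore_coprime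
      (G := ↥(centralizer ({y} : Set K))) p).symm h)
  · exact Subtype.ext (by rw [SubgroupClass.coe_pow, ← hx, pow_orderOf_eq_one]; rfl)

end Cfsg.Agent.H377.SporB
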