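import Cfsg.Agent.MThirteen.FiveRow
import Cfsg.Agent.LThreeMB.CoOneFin
import Cfsg.Agent.CpAutBFive.Final

/-!
# S4329, the row `B`: elements of orders 3, 5 and 47 of the Monster (helper377)

* `not_dvd_three` : 47 does not divide the order of the centralizer of an element of order 3 of the Monster (the model)
  whose centralizer has even order;
* `not_dvd_five` : the same for the elements of order 5 commuting with a conjugate of `z`.
-/

set_option autoImplicit false
set_option maxRecDepth 100000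

namespace Cfsg.Agent.H377.SporB

open Cfsg Cfsg.Agent.MonsterX Cfsg.Agent.MonsterX.InstData Cfsg.Agent.MonsterX.MainPack Cfsg.Agent.MonsterU
open Cfsg.Agent.MonsterP Cfsg.Agent.MonsterN Cfsg.Agent.LThree Cfsg.Agent.LThreeMB Cfsg.Agent.MThirteen
open Cfsg.Agent.MonsterX.MainBasic Cfsg.Agent.MonsterX.MainSimple Cfsg.Agent.MonsterX.Model
open Cfsg.Agent.MonsterU.Ch
open Cfsg.Agent.MonsterU.Lam2 (L2)
open Cfsg.Spor (Co1)
open Subgroup (centralizer mem_centralizer_singleton_iff)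

universe u

section chart

variable {G : Type u} [Group G] {Q : Subgroup G} {z : G} {eta : G → L2}
  {pi : Subgroup.centralizer ({z} : Set G) →* Co1}

/-- **Fixed ranks 8 and 12.** -/
theorem iso_of_inputs [Finite G] [IsSimpleGroup G] (h : Chart Q z eta pi) (I : CoOne)
    {x : Subgroup.centralizer ({z} : Set G)} (hx : orderOf x = 3) (hfr : fr (pi x) = 2 ^ 8 ∨ fr (pi x) = 2 ^ 12) :
    Spor.IsoTh (XX (x : G)) ∨ Spor.IsoFi24' (XX (x : G)) := by
  rcases hfr with hfr | hfr
  · obtain ⟨s, hs, hfs, ⟨e⟩, hg, hf⟩ := I.nine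
    obtain ⟨x', hx', hs', c, hc⟩ := exists_conj_to h hx hs (by rw [hfr]; exact I.eight) (by rw [hfs, hfr])
    subst hs'
    obtain ⟨-, ⟨f⟩⟩ := exists_XX_equiv hc
    exact Or.inl (isoTh_congr f (iso_th h hx' hfs (by rw [hfs]; exact I.eight) hf e hg))
  · obtain ⟨s, hs, hfs, ht, h4⟩ := I.psu
    obtain ⟨x', hx', hs', c, hc⟩ := exists_conj_to h hx hs (by rw [hfr]; exact I.twelve) (by rw [hfs, hfr])
    subst hs'
    obtain ⟨-, ⟨f⟩⟩ := exists_XX_equiv hc
    exact Or.inr (isoFi24_congr f (iso_fi24 h hx' hfs (by rw [hfs]; exact I.twelve) ht h4))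

end chart

theorem not_dvd_M : ¬ 47 ^ (1 + 1) ∣ Nat.card ↥InstData.M.G := by
  rw [MThirteen.Row.card_M]
  norm_num

theorem div_five : ∀ i, 1 ≤ i → i ≤ 1 → ¬ 5 ∣ 47 ^ i - 1 := by
  intro i h1 h2
  interval_cases i
  norm_num

/-- fixed rank 0 -/
theorem zero_three {x : centralizer ({KDone.K.z} : Set ↥InstData.M.G)} (hx : orderOf x = 3)
    (hfr : fr (KChart.pi LThreeB.Row.cent x) = 1) :
    ¬ 47 ∣ Nat.card ↥(centralizer ({(x : ↥InstData.M.G)} : Set ↥InstData.M.G)) := by
  have hfin : Finite ↥InstData.M.G := MThirteen.Row.finite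
  have hsim : IsSimpleGroup ↥InstData.M.G := MThirteen.Row.simple
  have : Fact (Nat.Prime 47) := ⟨by norm_num⟩
  have : Fact (Nat.Prime 5) := ⟨Nat.prime_five⟩
  have h := KChart.chart KDone.lft LThreeB.Row.cent
  obtain ⟨e⟩ := CoOneFin.coOne.suz _ (orderOf_pi h hx) hfr
  have hs := Cfsg.Agent.S1694.result
  have hc : Nat.card (XX (KChart.pi LThreeB.Row.cent x)) = 448345497600 := (Nat.card_congr e.toEquiv).trans hs.2
  refine not_dvd_zero (r := 3) (p := 47) (q := 5) (m := 1) Nat.prime_three (by decide) (by norm_num) (by norm_num)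
    (by norm_num) div_five not_dvd_M h hx hfr ?_ ?_ ?_ ?_ ?_ ?_
  · intro d hd hc
    exact LThreeMB.isolated h MThirteen.Row.trNe hx hfr d hd hc
  · exact (MulEquiv.isSimpleGroup_congr e).2 hs.1
  · rw [hc]; decide
  · rw [hc]; norm_num
  · rw [hc]; norm_num
  · obtain ⟨k, h1, h2⟩ := MThirteen.Row.exists_sq_z CoOneFin.coOne hx hfr
    exact ⟨k, h2, h1⟩

theorem not_dvd_in {x : centralizer ({KDone.K.z} : Set ↥InstData.M.G)} (hx : orderOf x = 3) :
    ¬ 47 ∣ Nat.card ↥(centralizer ({(x : ↥InstData.M.G)} : Set ↥InstData.M.G)) := by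
  have hfin : Finite ↥InstData.M.G := MThirteen.Row.finite
  have hsim : IsSimpleGroup ↥InstData.M.G := MThirteen.Row.simple
  have h := KChart.chart KDone.lft LThreeB.Row.cent
  have I := CoOneFin.coOne
  have h812 : ∀ x : centralizer ({KDone.K.z} : Set ↥InstData.M.G), orderOf x = 3 →
      (fr (KChart.pi LThreeB.Row.cent x) = 2 ^ 8 ∨ fr (KChart.pi LThreeB.Row.cent x) = 2 ^ 12) →
      ¬ 47 ∣ Nat.card ↥(centralizer ({(x : ↥InstData.M.G)} : Set ↥InstData.M.G)) := by
    intro x hx h1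
    refine not_dvd_XX Nat.prime_three (by norm_num) (by norm_num) (by rw [Subgroup.orderOf_coe, hx]) ?_
    rcases iso_of_inputs h I hx h1 with ⟨⟨e⟩⟩ | ⟨⟨e⟩⟩
    · rw [Nat.card_congr e.toEquiv, Cfsg.Agent.S1700.result.2]
      norm_num
    · rw [Nat.card_congr e.toEquiv, Cfsg.Agent.S1698.result.2]
      norm_num
  rcases I.ranks _ (orderOf_pi h hx) with h1 | h1 | h1
  · exact zero_three hx h1
  · obtain ⟨x₀, u, g, hx₀, hfr₀, huz, hux, hne, hg⟩ := MThirteen.Row.hasPair
    obtain ⟨k, hk⟩ := conj_six h MThirteen.Row.trNe I.ranks I.six (fun x hx h2 => by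
      have := good_of_inputs h I hx h2
      exact ⟨this.simple, this.nc⟩) hx₀ hfr₀ huz hux hne hg hx h1
    refine not_dvd_conj (i := 1) Nat.prime_three (by rw [Subgroup.orderOf_coe, hx]) (by rw [Subgroup.orderOf_coe, hx₀])
      (by rw [pow_one]; exact hk) (zero_three hx₀ hfr₀)
  · exact h812 x hx h1

/-- **Elements of order 3.** -/
theorem not_dvd_three {y : ↥InstData.M.G} (hy : orderOf y = 3)
    (he : ¬ Odd (Nat.card ↥(centralizer ({y} : Set ↥InstData.M.G)))) :
    ¬ 47 ∣ Nat.card ↥(centralizer ({y} : Set ↥InstData.M.G)) := by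
  obtain ⟨g, hg⟩ := LThreeM.FiRow.exists_z_of_even hy he
  obtain ⟨x', k, hk⟩ := MFive.Model.exists_in ⟨g, hg⟩
  have hx' : orderOf x' = 3 := by
    rw [← Subgroup.orderOf_coe, MFive.Model.orderOf_of_conj hk, hy]
  refine not_dvd_conj (i := 1) Nat.prime_three hy (k := k⁻¹) (by rw [Subgroup.orderOf_coe, hx']) ?_ (not_dvd_in hx')
  rw [pow_one, ← hk]
  group

/-- **Elements of order 5 commuting with a conjugate of `z`.** -/
theorem not_dvd_five {y : ↥InstData.M.G} (hy : orderOf y = 5)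
    (hex : ∃ g : ↥InstData.M.G, (g * KDone.K.z * g⁻¹) * y = y * (g * KDone.K.z * g⁻¹)) :
    ¬ 47 ∣ Nat.card ↥(centralizer ({y} : Set ↥InstData.M.G)) := by
  have hfin : Finite ↥InstData.M.G := MThirteen.Row.finite
  have hsim : IsSimpleGroup ↥InstData.M.G := MThirteen.Row.simple
  have : Fact (Nat.Prime 47) := ⟨by norm_num⟩
  have : Fact (Nat.Prime 5) := ⟨Nat.prime_five⟩
  have h := KChart.chart KDone.lft MFive.Row.hc
  rcases MFive.Row.cases_model CpAutBFive.Final.coFive (MFiveHN.Closed.hnEight h) hy hex with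
    ⟨⟨e⟩⟩ | ⟨y₀, k, i, hy₀, hfr, hk⟩
  · refine not_dvd_XX Nat.prime_five (by norm_num) (by norm_num) hy ?_
    rw [Nat.card_congr e.toEquiv, Cfsg.Agent.S1701.result.2]
    norm_num
  · refine not_dvd_conj Nat.prime_five hy (by rw [Subgroup.orderOf_coe, hy₀]) hk ?_
    have hy₀' : orderOf (KChart.pi MFive.Row.hc y₀) = 5 := MFive.orderOf_pi h Nat.prime_five (by decide) hy₀
    obtain ⟨e⟩ := CpAutBFive.Final.hJ _ hy₀' hfr
    have hc : Nat.card (XX (KChart.pi MFive.Row.hc y₀)) = 604800 :=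
      (Nat.card_congr e.toEquiv).trans Cfsg.Agent.S1619.result.2.2.2
    refine not_dvd_zero (r := 5) (p := 47) (q := 5) (m := 1) Nat.prime_five (by decide) (by norm_num) (by norm_num)
      (by norm_num) div_five not_dvd_M h hy₀ hfr ?_ ((MulEquiv.isSimpleGroup_congr e).2 Cfsg.Agent.S1620.result.1) ?_ ?_ ?_ ?_
    · intro d hd hc
      exact MFive.isolated h (MFive.KPair.trNe_five KDone.lft LThreeMBTr.tens MFive.Row.hc) hy₀ hfr d hd hc
    · rw [hc]; decide
    · rw [hc]; norm_num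
    · rw [hc]; norm_num
    · exact PreUniq.MonRow.exists_kk Nat.prime_five (by decide) MThirteen.FiveRow.neg_five y₀ hy₀ hfr

end Cfsg.Agent.H377.SporB
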