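import Cfsg.Agent.H377.Elt
import Cfsg.Agent.LieClassical.OrthCenter
import Cfsg.Agent.LieClassical.OrthFinite
import Cfsg.Agent.ClassicalGeometry.SiegelGen
import Cfsg.Agent.ClassicalGeometry.OrthDickson
import Cfsg.Agent.S2618

/-!
# Elements of the simple orthogonal groups from isometries of abstract quadratic spaces (helper377)

* `exists_of_isom` : the square of an isometry `T` gives an element of `POmega` of order `N`, where `N ∣ j` iff
  `T ^ (2 j) = ± 1`;
* `Elt2 F m ε N` : an isometry `T` of a `2m`-dimensional space of type `ε` with `T ^ (2 j) = ± 1` iff `N ∣ j`;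
  `Elt.two` (odd orders), `Elt.prod_two`, `Elt.add_two` construct them; `Elt2.plus`, `Elt2.minus` : elements of
  `PΩ⁺`, `PΩ⁻` of order `N`;
* `exists_odd_of_elt` : elements of `Ω_{2m+1}(q)`.
-/

set_option autoImplicit false
set_option linter.unusedSectionVars false
set_option linter.style.haveILetI false

namespace Cfsg.Agent.H377

open QuadraticMap Cfsg
open Cfsg.Agent.LieClassical.OrthCore Cfsg.Agent.LieClassical.OrthForms
open Cfsg.Agent.H403.Classify

section

variable {F : Type*} [Field F] [Finite F]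

/-- the square of an isometry lies in `Omega` -/
theorem mul_self_mem_Omega {ι : Type} [Fintype ι] [DecidableEq ι] (Q : QuadraticForm F (ι → F)) (hQ : Nondeg Q)
    (h5 : 5 ≤ Fintype.card ι) (g : isometryGroup F ⇑Q) : g * g ∈ Omega F ⇑Q := by
  have hQ' := nondegenerate_of_nondeg hQ
  by_cases h2 : (2 : F) = 0
  · haveI : Nonempty ι := by
      rw [← Fintype.card_pos_iff]
      omega
    have h := Cfsg.Agent.ClassicalGeometry.OrthDickson.index_commutator_two Q h2 hQ' (Or.inr (by omega))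
    exact Subgroup.mul_self_mem_of_index_two h g
  · exact Cfsg.Agent.ClassicalGeometry.SiegelGen.mul_self_mem_commutator h2 Q hQ' g

theorem orderOf_eq_of_forall {G : Type*} [Group G] {g : G} {m : ℕ} (h : ∀ j : ℕ, g ^ j = 1 ↔ m ∣ j) :
    orderOf g = m :=
  Nat.dvd_antisymm (orderOf_dvd_of_pow_eq_one ((h m).2 dvd_rfl)) ((h _).1 (pow_orderOf_eq_one g))

/-- **elements of `POmega` from isometries** -/
theorem exists_of_isom {ι : Type} [Fintype ι] [DecidableEq ι] (Q : QuadraticForm F (ι → F)) (hQ : Nondeg Q)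
    (h5 : 5 ≤ Fintype.card ι) {V : Type*} [AddCommGroup V] [Module F V] (Q' : V → F) (e : (ι → F) ≃ₗ[F] V)
    (c : F) (hc : c ≠ 0) (he : ∀ u, Q' (e u) = c * Q u) (T : Module.End F V) (hT : ∀ v, Q' (T v) = Q' v) (N : ℕ)
    (hN : ∀ j : ℕ, (T ^ (2 * j) = 1 ∨ T ^ (2 * j) = -1) ↔ N ∣ j) : ∃ g : POmega F ⇑Q, orderOf g = N := by
  classical
  let φ : Module.End F V ≃ₐ[F] Matrix ι ι F := (e.symm.conjAlgEquiv F).trans LinearMap.toMatrixAlgEquiv'
  have hφ : ∀ (S : Module.End F V) (x : ι → F), (φ S).mulVec x = e.symm (S (e x)) := by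
    intro S x
    show (LinearMap.toMatrix' (e.symm.conj S)).mulVec x = _
    rw [LinearMap.toMatrix'_mulVec]
    rfl
  have hM : ∀ x, Q ((φ T).mulVec x) = Q x := by
    intro x
    apply mul_left_cancel₀ hc
    rw [← he, ← he, hφ, e.apply_symm_apply, hT]
  have hinj : ∀ x, (φ T).mulVec x = 0 → x = 0 := by
    intro x hx
    apply hQ
    intro y
    have h1 : polar Q ((φ T).mulVec x) ((φ T).mulVec y) = polar Q x y := by
      rw [polar, polar, ← Matrix.mulVec_add, hM, hM, hM]
    rw [← h1, hx]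
    simp [polar]
  have hunit : IsUnit (φ T) := by
    rw [← Matrix.mulVec_injective_iff_isUnit]
    intro x y hxy
    have h1 : (φ T).mulVec (x - y) = 0 := by
      rw [Matrix.mulVec_sub]
      exact sub_eq_zero.2 hxy
    exact sub_eq_zero.1 (hinj _ h1)
  obtain ⟨M, hM'⟩ := hunit
  have hmem : M ∈ isometryGroup F ⇑Q := by
    rw [Cfsg.Agent.LieClassical.OrthFinite.mem_isometryGroup_iff]
    intro x
    rw [hM']
    exact hM x
  let g : isometryGroup F ⇑Q := ⟨M, hmem⟩
  let z : Omega F ⇑Q := ⟨g * g, mul_self_mem_Omega Q hQ h5 g⟩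
  have hz : ∀ j : ℕ, ((((z ^ j : Omega F ⇑Q) : isometryGroup F ⇑Q) : Matrix.GeneralLinearGroup ι F) : Matrix ι ι F)
      = φ (T ^ (2 * j)) := by
    intro j
    rw [map_pow, ← hM', pow_mul, pow_two]
    rfl
  have hs : ∃ u : ι → F, u ≠ 0 ∧ Q u = 0 := by
    obtain ⟨w, -, h1, h2⟩ := Cfsg.Agent.LieClassical.OrthFinite.exists_sing_mem (Q := Q) (⊤ : Submodule F (ι → F)) (by
      rw [finrank_top, Module.finrank_fintype_fun_eq_card]
      omega)
    exact ⟨w, h1, h2⟩
  refine ⟨QuotientGroup.mk z, orderOf_eq_of_forall fun j => ?_⟩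
  rw [← QuotientGroup.mk_pow, QuotientGroup.eq_one_iff,
    Cfsg.Agent.LieClassical.OrthCenter.mem_center_omega_iff (nondegenerate_of_nondeg hQ) (by omega) hs, hz, ← hN]
  constructor
  · rintro (h | h)
    · left; apply φ.injective; rw [h, map_one]
    · right; apply φ.injective; rw [h, map_neg, map_one]
  · rintro (h | h)
    · left; rw [h, map_one]
    · right; rw [h, map_neg, map_one]

/-! ### Even dimension -/

/-- `T` with `T ^ (2 j) = ± 1` iff `N ∣ j`, on a space of dimension `2m` and type `ε` -/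
def Elt2 (F : Type*) [Field F] [Finite F] (m : ℕ) (ε : ℤ) (N : ℕ) : Prop :=
  ∃ (Q : QuadraticForm F (Fin (2 * m) → F)) (g : Module.End F (Fin (2 * m) → F)),
    Nondeg Q ∧ HasSign (⇑Q) m ε ∧ (∀ v, Q (g v) = Q v) ∧
      ∀ j : ℕ, (g ^ (2 * j) = 1 ∨ g ^ (2 * j) = -1) ↔ N ∣ j

theorem Elt2.of {V : Type*} [AddCommGroup V] [Module F V] [Finite V] {Q : QuadraticForm F V} {g : Module.End F V}
    {n : ℕ} (hn : Module.finrank F V = 2 * n)
    (hQ : Nondeg Q) {ε : ℤ} (hs : HasSign (⇑Q) n ε) (hg : ∀ v, Q (g v) = Q v) {N : ℕ}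
    (ho : ∀ j : ℕ, (g ^ (2 * j) = 1 ∨ g ^ (2 * j) = -1) ↔ N ∣ j) : Elt2 F n ε N := by
  have : Module.Finite F V := Module.Finite.of_finite
  let e : V ≃ₗ[F] (Fin (2 * n) → F) := (Module.finBasisOfFinrankEq F V hn).equivFun
  refine ⟨Q.comp (e.symm : _ →ₗ[F] V), e.conj g, ?_, ?_, ?_, ?_⟩
  · intro x hx
    have h1 : e.symm x = 0 := by
      apply hQ
      intro y
      have := hx (e y)
      change Q (e.symm (x + e y)) - Q (e.symm x) - Q (e.symm (e y)) = 0 at this
      rw [map_add, LinearEquiv.symm_apply_apply] at this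
      exact this
    exact (LinearEquiv.map_eq_zero_iff _).1 h1
  · refine hs.congr e.toEquiv fun v => ?_
    change Q (e.symm (e v)) = Q v
    rw [LinearEquiv.symm_apply_apply]
  · intro v
    change Q (e.symm (e (g (e.symm v)))) = Q (e.symm v)
    rw [LinearEquiv.symm_apply_apply, hg]
  · intro j
    have h2 : (e.conj g) ^ (2 * j) = (LinearEquiv.conjRingEquiv e) (g ^ (2 * j)) := by
      change (LinearEquiv.conjRingEquiv e g) ^ (2 * j) = _
      rw [map_pow]
    rw [h2, ← ho j]
    constructor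
    · rintro (h | h)
      · left
        apply (LinearEquiv.conjRingEquiv e).injective
        rw [h, map_one]
      · right
        apply (LinearEquiv.conjRingEquiv e).injective
        rw [h, map_neg, map_one]
    · rintro (h | h)
      · left
        rw [h, map_one]
      · right
        rw [h, map_neg, map_one]

/-- **elements of `PΩ⁺`** -/
theorem Elt2.plus {m N : ℕ} (hm : 4 ≤ m) (h : Elt2 F m 1 N) :
    ∃ g : POmega F (quadFormPlus m F), orderOf g = N := by
  obtain ⟨Q, g, hQ, hs, hg, ho⟩ := h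
  obtain ⟨e, he⟩ := exists_plus (by omega) (by rw [Module.finrank_fin_fun]) Q hQ hs
  rw [← coe_plusForm]
  refine exists_of_isom (plusForm m F) (nondeg_plusForm m F) ?_ (⇑Q) e 1 one_ne_zero ?_ g hg N ho
  · rw [Fintype.card_sum, Fintype.card_fin]
    omega
  · intro u
    rw [he, one_mul, coe_plusForm]

/-- **elements of `PΩ⁻`** -/
theorem Elt2.minus {m N : ℕ} (hm : 4 ≤ m) {a b : F}
    (hab : ∀ z₁ z₂ : F, z₁ ^ 2 + a * z₁ * z₂ + b * z₂ ^ 2 = 0 → z₁ = 0 ∧ z₂ = 0) (h : Elt2 F m (-1) N) :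
    ∃ g : POmega F (quadFormMinus (m - 1) F a b), orderOf g = N := by
  obtain ⟨Q, g, hQ, hs, hg, ho⟩ := h
  obtain ⟨e, he⟩ := exists_minus (by omega) (by rw [Module.finrank_fin_fun]) Q hQ hs hab
  rw [← coe_minusForm]
  refine exists_of_isom (minusForm (m - 1) F a b) (nondeg_minusForm (m - 1) F a b hab) ?_ (⇑Q) e 1 one_ne_zero ?_
    g hg N ho
  · simp only [Fintype.card_sum, Fintype.card_fin]
    omega
  · intro u
    rw [he, one_mul, coe_minusForm]

theorem neg_one_pow_ne {V : Type*} [AddCommGroup V] [Module F V] [Nontrivial V] {N : ℕ} (hN : Odd N)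
    {g : Module.End F V} (h1 : g ^ N = 1) (j : ℕ) (h : g ^ j = -1) : g ^ j = 1 := by
  have h2 : (g ^ j) ^ N = 1 := by
    rw [← pow_mul, mul_comm, pow_mul, h1, one_pow]
  rw [h, hN.neg_one_pow] at h2
  rw [h, h2]

/-- odd orders -/
theorem Elt.two {m : ℕ} (hm : 1 ≤ m) {ε : ℤ} {N : ℕ} (hN : Odd N) (h : Elt F m ε N) : Elt2 F m ε N := by
  obtain ⟨hN0, Q, g, hQ, hs, hg, ho⟩ := h
  haveI : Nonempty (Fin (2 * m)) := ⟨⟨0, by omega⟩⟩
  refine ⟨Q, g, hQ, hs, hg, fun j => ?_⟩
  have hgN : g ^ N = 1 := by rw [← ho]; exact pow_orderOf_eq_one g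
  have hj : g ^ (2 * j) = 1 ↔ N ∣ j := by
    rw [← orderOf_dvd_iff_pow_eq_one, ho]
    exact (Nat.Coprime.symm (Nat.coprime_two_left.2 hN)).dvd_mul_left
  rw [← hj]
  constructor
  · rintro (h | h)
    · exact h
    · exact neg_one_pow_ne hN hgN _ h
  · exact Or.inl

theorem prodMap_pow' {V W : Type*} [AddCommGroup V] [Module F V] [AddCommGroup W] [Module F W]
    (S : Module.End F V) (T : Module.End F W) (j : ℕ) :
    ((S.prodMap T : Module.End F (V × W)) ^ j) = ((S ^ j).prodMap (T ^ j) : Module.End F (V × W)) := by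
  induction j with
  | zero => rw [pow_zero, pow_zero, pow_zero]; rfl
  | succ j ih => rw [pow_succ, ih, pow_succ, pow_succ]; rfl

theorem prodMap_eq_one_iff {V W : Type*} [AddCommGroup V] [Module F V] [AddCommGroup W] [Module F W]
    (S : Module.End F V) (T : Module.End F W) :
    (S.prodMap T : Module.End F (V × W)) = 1 ↔ S = 1 ∧ T = 1 := by
  constructor
  · intro h
    refine ⟨LinearMap.ext fun x => ?_, LinearMap.ext fun y => ?_⟩
    · exact congrArg Prod.fst (LinearMap.congr_fun h (x, 0))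
    · exact congrArg Prod.snd (LinearMap.congr_fun h (0, y))
  · rintro ⟨rfl, rfl⟩
    rfl

theorem prodMap_eq_neg_one_iff {V W : Type*} [AddCommGroup V] [Module F V] [AddCommGroup W] [Module F W]
    (S : Module.End F V) (T : Module.End F W) :
    (S.prodMap T : Module.End F (V × W)) = -1 ↔ S = -1 ∧ T = -1 := by
  constructor
  · intro h
    refine ⟨LinearMap.ext fun x => ?_, LinearMap.ext fun y => ?_⟩
    · exact congrArg Prod.fst (LinearMap.congr_fun h (x, 0))
    · exact congrArg Prod.snd (LinearMap.congr_fun h (0, y))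
  · rintro ⟨rfl, rfl⟩
    refine LinearMap.ext fun x => ?_
    rfl

/-- **orthogonal sum of an isometry of order `N₁` and an isometry `g₂`**, where the first one never is `-1` at the
even powers -/
theorem Elt.prod_two {n₁ n₂ : ℕ} (h1 : 1 ≤ n₁) {ε₁ ε₂ : ℤ} {u M : ℕ} (hu : Odd u)
    (h : Elt F n₁ ε₁ u) (h' : Elt F n₂ ε₂ M) (hM : Even M) : Elt2 F (n₁ + n₂) (ε₁ * ε₂) (Nat.lcm u (M / 2)) := by
  obtain ⟨hN0, Q, g, hQ, hs, hg, ho⟩ := h
  obtain ⟨hN0', Q', g', hQ', hs', hg', ho'⟩ := h'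
  haveI : Nonempty (Fin (2 * n₁)) := ⟨⟨0, by omega⟩⟩
  refine Elt2.of (V := (Fin (2 * n₁) → F) × (Fin (2 * n₂) → F))
    (Q := sumQ Q Q') (g := g.prodMap g')
    ?_ (sumQ_nondeg hQ hQ') (hs.prod hs') ?_ ?_
  · rw [Module.finrank_prod, Module.finrank_fin_fun, Module.finrank_fin_fun]
    ring
  · intro v
    rw [sumQ_apply, sumQ_apply, LinearMap.prodMap_apply, hg, hg']
  · intro j
    rw [prodMap_pow', prodMap_eq_one_iff, prodMap_eq_neg_one_iff]
    have hgN : g ^ u = 1 := by rw [← ho]; exact pow_orderOf_eq_one g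
    have e1 : g ^ (2 * j) = 1 ↔ u ∣ j := by
      rw [← orderOf_dvd_iff_pow_eq_one, ho]
      exact (Nat.Coprime.symm (Nat.coprime_two_left.2 hu)).dvd_mul_left
    have e2 : g' ^ (2 * j) = 1 ↔ M / 2 ∣ j := by
      obtain ⟨k, hk⟩ := hM
      rw [← orderOf_dvd_iff_pow_eq_one, ho', hk, show (k + k) / 2 = k by omega, ← two_mul]
      exact Nat.mul_dvd_mul_iff_left (by norm_num)
    rw [Nat.lcm_dvd_iff, ← e1, ← e2]
    constructor
    · rintro (h | ⟨h, h'⟩)
      · exact h
      · have h3 := neg_one_pow_ne hu hgN _ h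
        refine ⟨h3, ?_⟩
        rw [h'] 
        have h4 : (1 : Module.End F (Fin (2 * n₁) → F)) = -1 := h3.symm.trans h
        have h5 : (1 : F) = -1 := by
          have h6 := LinearMap.congr_fun h4 (fun _ => (1 : F))
          have h7 := congrFun h6 (Classical.arbitrary _)
          simpa using h7
        refine LinearMap.ext fun x => ?_
        change -x = x
        have h8 : (-1 : F) • x = (1 : F) • x := by rw [← h5]
        simpa using h8
    · exact Or.inl

/-- for an isometry of order `M` (even), together with a nonzero space with trivial action -/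
theorem Elt.add_two {n₁ n₂ : ℕ} (h1 : 1 ≤ n₂) {ε₁ ε₂ : ℤ} {M : ℕ} (hε : ε₂ = 1 ∨ ε₂ = -1)
    (h : Elt F n₁ ε₁ M) (hM : Even M) : Elt2 F (n₁ + n₂) (ε₁ * ε₂) (M / 2) := by
  have := (elt_one_pm (F := F) h1 hε).prod_two h1 odd_one h hM
  rwa [Nat.lcm_one_left, add_comm n₂, mul_comm ε₂] at this

/-! ### Odd dimension -/

/-- a nondegenerate space of odd dimension is similar to the standard one -/
theorem exists_similar_odd {V : Type*} [AddCommGroup V] [Module F V] [Finite V] {m : ℕ}
    (hV : Module.finrank F V = 2 * m + 1) (R : QuadraticForm F V) (hR : Nondeg R) :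
    ∃ (c : F) (e : (Unit ⊕ (Fin m ⊕ Fin m) → F) ≃ₗ[F] V), c ≠ 0 ∧ ∀ u, R (e u) = c * oddForm m F u := by
  haveI : FiniteDimensional F V := Module.Finite.of_finite
  obtain ⟨b, hc, h1, h3, h4, h5⟩ := Cfsg.Agent.S2618.result hV R (nondegenerate_of_nondeg hR)
  set c : F := R (b (Sum.inl ())) with hcdef
  let w : Unit ⊕ (Fin m ⊕ Fin m) → Fˣ := Sum.elim (fun _ => 1) (Sum.elim (fun _ => 1) (fun _ => Units.mk0 c hc))
  let b' := b.unitsSMul w
  have hb0 : b' (Sum.inl ()) = b (Sum.inl ()) := by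
    rw [Module.Basis.unitsSMul_apply]
    simp [w]
  have hbl : ∀ i, b' (Sum.inr (Sum.inl i)) = b (Sum.inr (Sum.inl i)) := fun i => by
    rw [Module.Basis.unitsSMul_apply]
    simp [w]
  have hbr : ∀ i, b' (Sum.inr (Sum.inr i)) = c • b (Sum.inr (Sum.inr i)) := fun i => by
    rw [Module.Basis.unitsSMul_apply]
    simp [w, Units.smul_def]
  refine ⟨c, (Pi.basisFun F (Unit ⊕ (Fin m ⊕ Fin m))).equiv b' (Equiv.refl _), hc, ?_⟩
  have key := iso_of_basis b' (Pi.basisFun F (Unit ⊕ (Fin m ⊕ Fin m))) R (c • oddForm m F) ?_ ?_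
  · intro u
    rw [key u]
    rfl
  · intro i
    rw [QuadraticMap.smul_apply, coe_oddForm, quadFormOdd_apply, smul_eq_mul]
    rcases i with i | i | i
    · rw [hb0]
      simp [Pi.basisFun_apply, hcdef]
    · rw [hbl, (h3 i).1]
      simp [Pi.basisFun_apply]
    · rw [hbr, QuadraticMap.map_smul, (h3 i).2]
      simp [Pi.basisFun_apply]
  · have hpol : ∀ u v, polar (⇑(c • oddForm m F)) u v = c * polar (⇑(oddForm m F)) u v := by
      intro u v
      simp only [polar, QuadraticMap.smul_apply, smul_eq_mul]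
      ring
    intro i j
    rw [hpol, polar_oddForm]
    rcases i with i | i | i <;> rcases j with j | j | j
    · rw [hb0, polar_self', ← hcdef]
      simp [Pi.basisFun_apply]
      try ring
    · rw [hb0, hbl, (h1 j).1]
      simp [Pi.basisFun_apply]
    · rw [hb0, hbr, polar_smul_right, (h1 j).2]
      simp [Pi.basisFun_apply]
    · rw [hb0, hbl, polar_comm, (h1 i).1]
      simp [Pi.basisFun_apply]
    · rw [hbl, hbl, (h5 i j).1]
      simp [Pi.basisFun_apply]
    · rw [hbl, hbr, polar_smul_right, h4 i j]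
      simp [Pi.basisFun_apply, Pi.single_apply, Finset.sum_ite_eq, eq_comm]
    · rw [hb0, hbr, polar_smul_left, polar_comm, (h1 i).2]
      simp [Pi.basisFun_apply]
    · rw [hbr, hbl, polar_smul_left, polar_comm, h4 j i]
      simp [Pi.basisFun_apply, Pi.single_apply, Finset.sum_ite_eq, eq_comm]
    · rw [hbr, hbr, polar_smul_left, polar_smul_right, (h5 i j).2]
      simp [Pi.basisFun_apply]

/-- **elements of `Ω_{2m+1}(q)`, `q` odd**, from isometries in dimension `2m` -/
theorem exists_odd_of_elt (h2 : (2 : F) ≠ 0) {m : ℕ} (hm : 3 ≤ m) {ε : ℤ} {M : ℕ} (h : Elt F m ε M) {N : ℕ}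
    (hMN : ∀ j, M ∣ 2 * j ↔ N ∣ j) : ∃ g : POmega F (quadFormOdd m F), orderOf g = N := by
  obtain ⟨hN0, Q, g, hQ, hs, hg, ho⟩ := h
  let Q₁ : QuadraticForm F F := QuadraticMap.sq
  have hQ₁ : Nondeg Q₁ := by
    intro x hx
    have h3 := hx 1
    simp only [polar, Q₁, QuadraticMap.sq_apply] at h3
    have h4 : 2 * x = 0 := by linear_combination h3
    exact (mul_eq_zero.1 h4).resolve_left h2
  have hR : Nondeg (sumQ Q Q₁) := sumQ_nondeg hQ hQ₁
  have hfr : Module.finrank F ((Fin (2 * m) → F) × F) = 2 * m + 1 := by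
    rw [Module.finrank_prod, Module.finrank_fin_fun, Module.finrank_self]
  obtain ⟨c, e, hc, he⟩ := exists_similar_odd hfr (sumQ Q Q₁) hR
  rw [← coe_oddForm]
  refine exists_of_isom (oddForm m F) (nondeg_oddForm m F h2) ?_ (⇑(sumQ Q Q₁)) e c hc he
    (g.prodMap (1 : Module.End F F)) ?_ N ?_
  · simp only [Fintype.card_sum, Fintype.card_fin, Fintype.card_unit]
    omega
  · intro v
    rw [sumQ_apply, sumQ_apply, LinearMap.prodMap_apply, hg]
    rfl
  · intro j
    rw [prodMap_pow', prodMap_eq_one_iff, prodMap_eq_neg_one_iff, one_pow, ← hMN, ← ho,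
      orderOf_dvd_iff_pow_eq_one]
    constructor
    · rintro (⟨h, -⟩ | ⟨-, h⟩)
      · exact h
      · exfalso
        have h3 := LinearMap.congr_fun h (1 : F)
        change (1 : F) = -1 at h3
        apply h2
        linear_combination h3
    · intro h
      exact Or.inl ⟨h, rfl⟩

end

end Cfsg.Agent.H377
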