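import Cfsg.Agent.H568.RowTools
import Cfsg.Agent.BpSpor.RowAll

/-!
# S4329, sporadic rows: tools (helper377)

* `row_of_inn` : all automorphisms of odd prime order inner, and for the primes whose square divides the order an element
  normalising no `p`-subgroup;
* `row_of_dat` : the same from helper5's `Dat`;
* `noNorm_of` : an element of prime order `l` commuting with no element of order `p`; `l ∤ p ^ k - 1` for the `k ≤ K`,
  `p ^ (K + 1)` does not divide the order.
-/

set_option autoImplicit false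

namespace Cfsg.Agent.H377.SporRow

open Subgroup Cfsg.Agent.H568 Cfsg.Agent.BpSpor.Inn Cfsg.Agent

variable {K : Type*} [Group K]

/-- a simple group of composite order is not commutative -/
theorem not_comm_of_card [Finite K] [IsSimpleGroup K] (h : ¬ (Nat.card K).Prime) : ¬ IsMulCommutative K := by
  intro hc
  let _ : CommGroup K := { (inferInstance : Group K) with mul_comm := fun a b => hc.is_comm.comm a b }
  exact h IsSimpleGroup.prime_card

/-- the Sylow subgroups of order dividing `p` are cyclic -/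
theorem exists_cyclic [Finite K] {p : ℕ} [hp : Fact p.Prime] (h : ¬ p ^ 2 ∣ Nat.card K) :
    ∃ P : Sylow p K, IsCyclic ↥(P : Subgroup K) := by
  obtain ⟨P⟩ : Nonempty (Sylow p K) := inferInstance
  refine ⟨P, ?_⟩
  have h1 : (Nat.card K).factorization p ≤ 1 := by
    by_contra hc
    exact h ((hp.1.pow_dvd_iff_le_factorization Nat.card_pos.ne').2 (by omega))
  have h2 := P.card_eq_multiplicity
  rcases Nat.le_one_iff_eq_zero_or_eq_one.1 h1 with h3 | h3
  · rw [h3, pow_zero] at h2
    have : Subsingleton ↥(P : Subgroup K) := (Nat.card_eq_one_iff_unique.1 h2).1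
    exact isCyclic_of_subsingleton
  · rw [h3, pow_one] at h2
    exact isCyclic_of_prime_card h2

theorem row_of_inn [Finite K] [IsSimpleGroup K] (hna : ¬ IsMulCommutative K) (inn : OddInn K) {p : ℕ} [hp : Fact p.Prime]
    (hp2 : p ≠ 2) (h : p ^ 2 ∣ Nat.card K → ∃ x : K, NoNorm p x) : Row p K := by
  refine row_of hna fun a ha => ?_
  have hi := inn p hp.1 hp2 a ha
  by_cases hd : p ^ 2 ∣ Nat.card K
  · exact Or.inr (Or.inl ⟨hi, h hd⟩)
  · exact Or.inl ⟨hi, exists_cyclic hd⟩

/-- `Row` for all odd primes from the primes whose square divides the order -/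
theorem row_of_dat [Finite K] [IsSimpleGroup K] {N : ℕ} (D : BpSpor.Dat K N) {l : List (ℕ × ℕ)}
    (hv : OrdDiv.valid l N = true) (h4 : 4 ∣ N)
    (hrows : ∀ x ∈ l, 2 ≤ x.2 → x.1 ≠ 2 → ∀ [Fact x.1.Prime], ∃ y : K, NoNorm x.1 y) {p : ℕ} [hp : Fact p.Prime]
    (hp2 : p ≠ 2) : Row p K := by
  refine row_of_inn (not_comm_of_card fun hc => ?_) D.inn hp2 fun hd => ?_
  · rw [D.card] at hc
    rcases (Nat.dvd_prime hc).1 ((by norm_num : 2 ∣ 4).trans h4) with h2 | h2
    · omega
    · rw [← h2] at h4
      omega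
  · rw [D.card] at hd
    obtain ⟨k, hk, h2k⟩ := OrdDiv.exists_pair hv hp.1 (by norm_num : 1 ≤ 2) hd
    exact hrows (p, k) hk h2k hp2

theorem noNorm_of [Finite K] {p l : ℕ} [hp : Fact p.Prime] (hl : l.Prime) {x : K} (hx : orderOf x = l)
    (hcen : ∀ y : K, orderOf y = p → x * y ≠ y * x) (N : ℕ) (hN : ¬ p ^ (N + 1) ∣ Nat.card K)
    (h : ∀ k ∈ Finset.Icc 1 N, ¬ l ∣ p ^ k - 1) : NoNorm p x := by
  refine noNorm_of_order hl hx hcen fun k hk hd => h k ?_
  rw [Finset.mem_Icc]
  refine ⟨Nat.one_le_iff_ne_zero.2 hk, ?_⟩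
  by_contra hc
  exact hN ((pow_dvd_pow p (by omega)).trans hd)

/-- The centralizer of an element of prime order `l` has order `l`: it commutes with no element of order `p ≠ l`. -/
theorem not_comm_of_selfcent {p l : ℕ} (hp : p.Prime) (hl : l.Prime) (hpl : p ≠ l) {x : K}
    (hc : Nat.card ↥(centralizer ((zpowers x : Subgroup K) : Set K)) = l) (y : K) (hy : orderOf y = p) : x * y ≠ y * x := by
  intro hxy
  have h1 : y ∈ centralizer ((zpowers x : Subgroup K) : Set K) := by
    rw [mem_centralizer_iff]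
    rintro _ ⟨m, rfl⟩
    exact ((Commute.zpow_left (show Commute x y from hxy) m)).eq
  have h2 : p ∣ l := by
    rw [← hy, ← Subgroup.orderOf_mk y h1, ← hc]
    exact orderOf_dvd_natCard _
  exact hpl ((Nat.prime_dvd_prime_iff_eq hp hl).1 h2)

end Cfsg.Agent.H377.SporRow
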