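import Cfsg.Agent.H377.Types
import Cfsg.Agent.S0306

/-!
# Isometries of prescribed order of quadratic spaces over finite fields, all characteristics (helper377)

`Elt F n ε N`: there is a nondegenerate quadratic form over `F` of type `ε` in dimension `2n` with an isometry of
order `N`. Generalises `Cfsg.Agent.H403.Elt` (helper403, characteristic two).

* `Elt.prod`, `Elt.dvd`, `Elt.res`;
* `elt_tor_plus`, `elt_tor_minus` : tori of order `q ^ k - 1`, `q ^ k + 1`;
* `elt_one_pm`, `elt_four` (order 4, dimension at least 4, both types), `elt_char` (order `p`, `p` odd).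
-/

set_option autoImplicit false
set_option linter.unusedSectionVars false
set_option linter.style.haveILetI false

namespace Cfsg.Agent.H377

open QuadraticMap
open Cfsg.Agent.LieClassical.OrthCore Cfsg.Agent.LieClassical.OrthForms
open Cfsg.Agent.H403.Classify

section

variable (F : Type*) [Field F] [Finite F]

/-- A nondegenerate quadratic form of type `ε` in dimension `2n` has an isometry of order `N`. -/
def Elt (n : ℕ) (ε : ℤ) (N : ℕ) : Prop :=
  0 < N ∧ ∃ (Q : QuadraticForm F (Fin (2 * n) → F)) (g : Module.End F (Fin (2 * n) → F)),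
    Nondeg Q ∧ HasSign (⇑Q) n ε ∧ (∀ v, Q (g v) = Q v) ∧ orderOf g = N

variable {F}

theorem Elt.of {V : Type*} [AddCommGroup V] [Module F V] [Finite V] {Q : QuadraticForm F V} {g : Module.End F V}
    {n : ℕ} (hn : Module.finrank F V = 2 * n)
    (hQ : Nondeg Q) {ε : ℤ} (hs : HasSign (⇑Q) n ε) (hg : ∀ v, Q (g v) = Q v) {N : ℕ} (hN : 0 < N)
    (ho : orderOf g = N) : Elt F n ε N := by
  have : Module.Finite F V := Module.Finite.of_finite
  let e : V ≃ₗ[F] (Fin (2 * n) → F) := (Module.finBasisOfFinrankEq F V hn).equivFun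
  refine ⟨hN, Q.comp (e.symm : _ →ₗ[F] V), e.conj g, ?_, ?_, ?_, ?_⟩
  · intro x hx
    have h1 : e.symm x = 0 := by
      apply hQ
      intro y
      have := hx (e y)
      change Q (e.symm (x + e y)) - Q (e.symm x) - Q (e.symm (e y)) = 0 at this
      rw [map_add, LinearEquiv.symm_apply_apply] at this
      exact this
    exact (LinearEquiv.map_eq_zero_iff _).1 h1
  · refine hs.congr e.toEquiv fun v => ?_
    change Q (e.symm (e v)) = Q v
    rw [LinearEquiv.symm_apply_apply]
  · intro v
    change Q (e.symm (e (g (e.symm v)))) = Q (e.symm v)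
    rw [LinearEquiv.symm_apply_apply, hg]
  · rw [← ho, orderOf_eq_orderOf_iff]
    intro k
    have h2 : (e.conj g) ^ k = e.conj (g ^ k) := by
      change (LinearEquiv.conjRingEquiv e g) ^ k = LinearEquiv.conjRingEquiv e (g ^ k)
      rw [map_pow]
    rw [h2]
    constructor
    · intro h
      apply e.conj.injective
      rw [h]
      exact (LinearEquiv.conjRingEquiv e).map_one.symm
    · intro h
      rw [h]
      exact (LinearEquiv.conjRingEquiv e).map_one

theorem isom_pow {V : Type*} [AddCommGroup V] [Module F V] {Q : QuadraticForm F V} {g : Module.End F V}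
    (hg : ∀ v, Q (g v) = Q v) (c : ℕ) (v : V) : Q ((g ^ c) v) = Q v := by
  induction c generalizing v with
  | zero => rfl
  | succ c ih => rw [pow_succ, Module.End.mul_apply, ih, hg]

theorem Elt.dvd {n : ℕ} {ε : ℤ} {N M : ℕ} (h : Elt F n ε N) (hM : M ∣ N) : Elt F n ε M := by
  obtain ⟨hN, Q, g, hQ, hs, hg, ho⟩ := h
  obtain ⟨c, hc⟩ := hM
  have hc0 : c ≠ 0 := by
    rintro rfl
    omega
  have hM0 : 0 < M := by
    rcases Nat.eq_zero_or_pos M with rfl | h
    · omega
    · exact h
  refine ⟨hM0, Q, g ^ c, hQ, hs, fun v => isom_pow hg c v, ?_⟩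
  rw [orderOf_pow' g hc0, ho, hc, Nat.gcd_eq_right (Dvd.intro_left _ rfl)]
  exact Nat.mul_div_cancel _ (Nat.pos_of_ne_zero hc0)

/-- the orthogonal sum of two forms -/
def sumQ {V W : Type*} [AddCommGroup V] [Module F V] [AddCommGroup W] [Module F W]
    (Q : QuadraticForm F V) (Q' : QuadraticForm F W) : QuadraticForm F (V × W) :=
  Q.comp (LinearMap.fst F _ _) + Q'.comp (LinearMap.snd F _ _)

theorem sumQ_apply {V W : Type*} [AddCommGroup V] [Module F V] [AddCommGroup W] [Module F W]
    (Q : QuadraticForm F V) (Q' : QuadraticForm F W) (v : V × W) : sumQ Q Q' v = Q v.1 + Q' v.2 := rfl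

theorem sumQ_nondeg {V W : Type*} [AddCommGroup V] [Module F V] [AddCommGroup W] [Module F W]
    {Q : QuadraticForm F V} {Q' : QuadraticForm F W} (hQ : Nondeg Q) (hQ' : Nondeg Q') : Nondeg (sumQ Q Q') := by
  intro x hx
  refine Prod.ext (hQ _ fun y => ?_) (hQ' _ fun y => ?_)
  · have := hx (y, 0)
    simp only [polar, sumQ_apply, Prod.fst_add, Prod.snd_add, add_zero, QuadraticMap.map_zero] at this
    rw [polar]
    linear_combination this
  · have := hx (0, y)
    simp only [polar, sumQ_apply, Prod.fst_add, Prod.snd_add, add_zero, QuadraticMap.map_zero] at this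
    rw [polar]
    linear_combination this

theorem orderOf_prodMap {V W : Type*} [AddCommGroup V] [Module F V] [AddCommGroup W] [Module F W]
    (g : Module.End F V) (g' : Module.End F W) :
    orderOf (g.prodMap g' : Module.End F (V × W)) = Nat.lcm (orderOf g) (orderOf g') := by
  rw [← Prod.orderOf (g, g')]
  have h1 : g.prodMap g' = LinearMap.prodMapRingHom F V W (g, g') := rfl
  rw [h1]
  apply orderOf_injective
  rintro ⟨a, b⟩ ⟨a', b'⟩ hab
  have h2 : ∀ x y, (a x, b y) = (a' x, b' y) := fun x y => LinearMap.congr_fun hab (x, y)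
  refine Prod.ext (LinearMap.ext fun x => congrArg Prod.fst (h2 x 0)) (LinearMap.ext fun y => congrArg Prod.snd (h2 0 y))

theorem Elt.prod {n n' : ℕ} {ε ε' : ℤ} {N N' : ℕ} (h : Elt F n ε N) (h' : Elt F n' ε' N') :
    Elt F (n + n') (ε * ε') (Nat.lcm N N') := by
  obtain ⟨hN, Q, g, hQ, hs, hg, ho⟩ := h
  obtain ⟨hN', Q', g', hQ', hs', hg', ho'⟩ := h'
  refine Elt.of (V := (Fin (2 * n) → F) × (Fin (2 * n') → F))
    (Q := sumQ Q Q') (g := g.prodMap g')
    ?_ (sumQ_nondeg hQ hQ') (hs.prod hs') ?_ (Nat.lcm_pos hN hN') ?_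
  · rw [Module.finrank_prod, Module.finrank_fin_fun, Module.finrank_fin_fun]
    ring
  · intro v
    rw [sumQ_apply, sumQ_apply, LinearMap.prodMap_apply, hg, hg']
  · rw [orderOf_prodMap, ho, ho']

theorem orderOf_restrictScalars {K V : Type*} [Field K] [Algebra F K] [AddCommGroup V] [Module F V] [Module K V]
    [IsScalarTower F K V] (g : Module.End K V) : orderOf (g.restrictScalars F : Module.End F V) = orderOf g := by
  rw [orderOf_eq_orderOf_iff]
  intro k
  have h : ∀ (k : ℕ) (v : V), ((g.restrictScalars F : Module.End F V) ^ k) v = (g ^ k) v := by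
    intro k
    induction k with
    | zero => intro v; rfl
    | succ k ih =>
      intro v
      rw [pow_succ, pow_succ, Module.End.mul_apply, Module.End.mul_apply, ih]
      rfl
  constructor
  · intro h1
    ext v
    rw [← h, h1]
    rfl
  · intro h1
    ext v
    rw [h, h1]
    rfl

/-- Restriction of scalars. -/
theorem Elt.res {K : Type*} [Field K] [Finite K] [Algebra F K] {n : ℕ} {ε : ℤ} {N : ℕ} (h : Elt K n ε N) :
    Elt F (Module.finrank F K * n) ε N := by
  obtain ⟨hN, Q, g, hQ, hs, hg, ho⟩ := h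
  have : Module.Finite F K := Module.Finite.of_finite
  let Q' : QuadraticForm F (Fin (2 * n) → K) := (Algebra.trace F K).compQuadraticMap' Q
  have hQ' : ∀ v, Q' v = Algebra.trace F K (Q v) := fun v => rfl
  refine Elt.of (V := Fin (2 * n) → K) (Q := Q') (g := g.restrictScalars F) ?_ ?_ ?_ ?_ hN ?_
  · rw [Module.finrank_pi_fintype, Finset.sum_const, Finset.card_univ, Fintype.card_fin, smul_eq_mul]
    ring
  · intro x hx
    apply hQ
    intro y
    have h1 : ∀ c : K, Algebra.trace F K (c * polar Q x y) = 0 := by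
      intro c
      have h2 := hx (c • y)
      simp only [polar, hQ'] at h2
      rw [← map_sub, ← map_sub] at h2
      have h3 : polar Q x (c • y) = c * polar Q x y := by
        rw [polar_smul_right, smul_eq_mul]
      rw [← h3]
      exact h2
    by_contra hne
    obtain ⟨t, ht⟩ := Algebra.trace_surjective F K 1
    have h5 := h1 (t * (polar Q x y)⁻¹)
    rw [mul_assoc, inv_mul_cancel₀ hne, mul_one, ht] at h5
    exact one_ne_zero h5
  · exact hs.res
  · intro v
    rw [hQ', hQ']
    congr 1
    exact hg v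
  · rw [orderOf_restrictScalars, ho]

theorem finrank_sumFun (n : ℕ) : Module.finrank F (Fin n ⊕ Fin n → F) = 2 * n := by
  rw [Module.finrank_fintype_fun_eq_card, Fintype.card_sum, Fintype.card_fin]
  ring

theorem elt_one (n : ℕ) : Elt F n 1 1 :=
  Elt.of (V := Fin n ⊕ Fin n → F) (Q := plusForm n F) (g := 1) (finrank_sumFun n) (nondeg_plusForm n F)
    (hasSign_plusForm n) (fun _ => rfl) one_pos orderOf_one

/-- the hyperbolic plane -/
def hypQ (F : Type*) [Field F] : QuadraticForm F (F × F) :=
  QuadraticMap.linMulLin (LinearMap.fst F F F) (LinearMap.snd F F F)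

theorem hypQ_apply (v : F × F) : hypQ F v = v.1 * v.2 := rfl

theorem hypQ_nondeg : Nondeg (hypQ F) := by
  intro x hx
  have h1 := hx (0, 1)
  have h2 := hx (1, 0)
  simp only [polar, hypQ_apply, Prod.fst_add, Prod.snd_add] at h1 h2
  refine Prod.ext ?_ ?_
  · change x.1 = 0
    linear_combination h1
  · change x.2 = 0
    linear_combination h2

/-- The hyperbolic plane. -/
theorem elt_hyp {N : ℕ} (hN : N ∣ Nat.card F - 1) : Elt F 1 1 N := by
  have hq := Finite.one_lt_card (α := F)
  refine Elt.dvd ?_ hN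
  obtain ⟨l, hl⟩ := IsCyclic.exists_ofOrder_eq_natCard (α := Fˣ)
  rw [Nat.card_units] at hl
  let g : Module.End F (F × F) :=
    ((l : F) • (LinearMap.id : F →ₗ[F] F)).prodMap (((l⁻¹ : Fˣ) : F) • (LinearMap.id : F →ₗ[F] F))
  have hg : ∀ (k : ℕ) (v : F × F), (g ^ k) v = (((l ^ k : Fˣ) : F) * v.1, (((l ^ k)⁻¹ : Fˣ) : F) * v.2) := by
    intro k
    induction k with
    | zero => intro v; simp
    | succ k ih =>
      intro v
      rw [pow_succ, Module.End.mul_apply, ih]
      change (((l ^ k : Fˣ) : F) * ((l : F) * v.1), (((l ^ k)⁻¹ : Fˣ) : F) * (((l⁻¹ : Fˣ) : F) * v.2)) = _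
      rw [pow_succ, mul_inv_rev, Units.val_mul, Units.val_mul, mul_assoc]
      congr 1
      rw [mul_comm ((l⁻¹ : Fˣ) : F) (((l ^ k)⁻¹ : Fˣ) : F), mul_assoc]
  refine Elt.of (V := F × F) (Q := hypQ F) (g := g) (by simp) hypQ_nondeg hasSign_mul ?_ (by omega) ?_
  · intro v
    have h := hg 1 v
    rw [pow_one] at h
    rw [h, hypQ_apply, hypQ_apply, pow_one]
    change (l : F) * v.1 * (((l⁻¹ : Fˣ) : F) * v.2) = v.1 * v.2
    have h1 : (l : F) * ((l⁻¹ : Fˣ) : F) = 1 := Units.mul_inv l
    linear_combination v.1 * v.2 * h1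
  · rw [← hl, orderOf_eq_orderOf_iff]
    intro k
    constructor
    · intro h
      have h1 := hg k (1, 0)
      rw [h] at h1
      have h2 := congrArg Prod.fst h1
      simp only [mul_one] at h2
      exact Units.ext h2.symm
    · intro h
      ext <;> simp [hg, h]

theorem charTwo_of (h2 : (2 : F) = 0) : CharP F 2 := by
  refine ⟨fun x => ?_⟩
  have := CharP.cast_eq_zero_iff F (ringChar F) x
  have h3 : ringChar F = 2 := by
    have h4 : ringChar F ∣ 2 := (ringChar.spec F 2).1 (by exact_mod_cast h2)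
    have h5 : ringChar F ≠ 1 := CharP.ringChar_ne_one
    exact ((Nat.dvd_prime Nat.prime_two).1 h4).resolve_left h5
  rw [h3] at this
  exact this

/-- there is an anisotropic binary form -/
theorem exists_aniso (F : Type*) [Field F] [Finite F] : ∃ a b : F, Aniso a b := by
  classical
  letI := Fintype.ofFinite F
  by_cases h2 : (2 : F) = 0
  · haveI := charTwo_of h2
    obtain ⟨μ, hμ⟩ : ∃ μ, μ ∉ (asMap F).range := by
      by_contra hcon
      push Not at hcon
      have h1 : (asMap F).range = ⊤ := eq_top_iff.2 fun x _ => hcon x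
      have h3 := index_range_asMap (F := F)
      rw [h1, AddSubgroup.index_top] at h3
      omega
    refine ⟨1, μ, aniso_of_root fun t ht => hμ ⟨t, ?_⟩⟩
    rw [asMap_apply]
    linear_combination ht - μ * h2
  · have hF : ringChar F ≠ 2 := by
      intro hc
      apply h2
      have := ringChar.Nat.cast_ringChar (R := F)
      rw [hc] at this
      exact_mod_cast this
    obtain ⟨δ, hδ⟩ := FiniteField.exists_nonsquare hF
    refine ⟨0, -δ, fun z₁ z₂ h => ?_⟩
    by_cases hz : z₂ = 0
    · subst hz
      refine ⟨?_, rfl⟩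
      have : z₁ ^ 2 = 0 := by linear_combination h
      exact (pow_eq_zero_iff two_ne_zero).1 this
    · exfalso
      apply hδ
      refine ⟨z₁ / z₂, ?_⟩
      field_simp
      linear_combination -h

/-- The elliptic plane. -/
theorem elt_ell {N : ℕ} (hN : N ∣ Nat.card F + 1) : Elt F 1 (-1) N := by
  classical
  letI := Fintype.ofFinite F
  refine Elt.dvd ?_ hN
  obtain ⟨a, b, hμ⟩ := exists_aniso F
  obtain ⟨e⟩ := Cfsg.Agent.S0306.result (F := F) (q := Nat.card F) (Nat.card_eq_fintype_card).symm a b hμ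
  set h : Cfsg.isometryGroup F (Cfsg.quadFormMinus 0 F a b) := e.symm (DihedralGroup.r 1) with hh
  have hho : orderOf h = Nat.card F + 1 := by
    rw [hh, MulEquiv.orderOf_eq, DihedralGroup.orderOf_r_one]
  set M : Matrix ((Fin 0 ⊕ Fin 0) ⊕ Fin 2) ((Fin 0 ⊕ Fin 0) ⊕ Fin 2) F := h.1.1 with hM
  have hMQ : ∀ v, Cfsg.quadFormMinus 0 F a b (M.mulVec v) = Cfsg.quadFormMinus 0 F a b v := fun v => h.2 v v
  have hMo : orderOf M = Nat.card F + 1 := by
    rw [hM, orderOf_units, Subgroup.orderOf_coe, hho]
  refine Elt.of (V := (Fin 0 ⊕ Fin 0) ⊕ Fin 2 → F) (Q := minusForm 0 F a b) (g := Matrix.toLinAlgEquiv' M)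
    (by simp) (nondeg_minusForm 0 F a b hμ) (hasSign_minusForm 0 hμ) ?_ (Nat.succ_pos _) ?_
  · intro v
    rw [coe_minusForm]
    exact hMQ v
  · rw [← hMo]
    exact MulEquiv.orderOf_eq (Matrix.toLinAlgEquiv' : Matrix _ _ F ≃ₐ[F] _).toMulEquiv M

theorem elt_one_minus {n : ℕ} (hn : 1 ≤ n) : Elt F n (-1) 1 := by
  have h := (elt_one (F := F) (n - 1)).prod (elt_ell (F := F) (N := 1) (one_dvd _))
  rw [one_mul, Nat.lcm_self, show n - 1 + 1 = n by omega] at h
  exact h

/-- Split tori. -/
theorem elt_tor_plus {k N : ℕ} (hk : 1 ≤ k) (hN : N ∣ Nat.card F ^ k - 1) : Elt F k 1 N := by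
  obtain ⟨p, _⟩ := CharP.exists F
  haveI : Fact p.Prime := ⟨CharP.char_is_prime F p⟩
  haveI : NeZero k := ⟨by omega⟩
  have h := Elt.res (F := F) (elt_hyp (F := FiniteField.Extension F p k) (N := N) (by
    rwa [FiniteField.natCard_extension]))
  rwa [FiniteField.finrank_extension, mul_one] at h

/-- Nonsplit tori. -/
theorem elt_tor_minus {k N : ℕ} (hk : 1 ≤ k) (hN : N ∣ Nat.card F ^ k + 1) : Elt F k (-1) N := by
  obtain ⟨p, _⟩ := CharP.exists F
  haveI : Fact p.Prime := ⟨CharP.char_is_prime F p⟩
  haveI : NeZero k := ⟨by omega⟩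
  have h := Elt.res (F := F) (elt_ell (F := FiniteField.Extension F p k) (N := N) (by
    rwa [FiniteField.natCard_extension]))
  rwa [FiniteField.finrank_extension, mul_one] at h

theorem elt_one_pm {n : ℕ} (hn : 1 ≤ n) {ε : ℤ} (hε : ε = 1 ∨ ε = -1) : Elt F n ε 1 := by
  rcases hε with rfl | rfl
  · exact elt_one n
  · exact elt_one_minus hn

/-- adding a space with trivial action -/
theorem Elt.add {n : ℕ} {ε : ℤ} {N : ℕ} (h : Elt F n ε N) {m : ℕ} (hm : 1 ≤ m) {ε' : ℤ} (hε' : ε' = 1 ∨ ε' = -1) :
    Elt F (n + m) (ε * ε') N := by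
  have := h.prod (elt_one_pm (F := F) hm hε')
  rwa [Nat.lcm_one_right] at this

theorem elt_two_plus_four : Elt F 2 1 4 := by
  let T : Module.End F ((F × F) × (F × F)) :=
    (LinearMap.snd F (F × F) (F × F)).prod
      (((LinearMap.snd F F F).prod (LinearMap.fst F F F)).comp (LinearMap.fst F (F × F) (F × F)))
  have hT : ∀ v : (F × F) × (F × F), T v = ((v.2.1, v.2.2), (v.1.2, v.1.1)) := fun v => rfl
  refine Elt.of (V := (F × F) × (F × F)) (Q := sumQ (hypQ F) (hypQ F)) (g := T) (by simp)
    (sumQ_nondeg hypQ_nondeg hypQ_nondeg) ?_ ?_ (by norm_num) ?_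
  · have := (hasSign_mul (F := F)).prod (hasSign_mul (F := F))
    rw [one_mul] at this
    exact this
  · intro v
    rw [hT, sumQ_apply, sumQ_apply]
    simp only [hypQ_apply]
    ring
  · have h2 : ∀ v, (T ^ 2) v = ((v.1.2, v.1.1), (v.2.2, v.2.1)) := by
      intro v
      rw [pow_two, Module.End.mul_apply, hT, hT]
    have h4 : T ^ 4 = 1 := by
      refine LinearMap.ext fun v => ?_
      rw [show (4 : ℕ) = 2 + 2 from rfl, pow_add, Module.End.mul_apply, h2, h2]
      rfl
    have : orderOf T = 2 ^ (1 + 1) := by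
      haveI : Fact (Nat.Prime 2) := ⟨Nat.prime_two⟩
      refine orderOf_eq_prime_pow (p := 2) (n := 1) ?_ ?_
      · intro h
        have h5 := h2 ((1, 0), (0, 0))
        rw [pow_one] at h
        rw [h] at h5
        have h6 := congrArg (fun v => v.1.1) h5
        change (1 : F) = 0 at h6
        exact one_ne_zero h6
      · exact h4
    rw [this]
    norm_num

theorem elt_two_minus_four : Elt F 2 (-1) 4 := by
  have hq1 : 1 < Nat.card F := Finite.one_lt_card
  by_cases h2 : (2 : F) = 0
  · haveI := charTwo_of h2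
    obtain ⟨μ, hμ⟩ : ∃ μ : F, Aniso 1 μ := by
      obtain ⟨a, b, hab⟩ := exists_aniso F
      exact ⟨_, hab.scale⟩
    have hb : ∀ z, binForm F 1 μ z = z 0 ^ 2 + z 0 * z 1 + μ * z 1 ^ 2 := by
      intro z
      rw [binForm_apply, bin]
      ring
    let T : Module.End F ((F × F) × (Fin 2 → F)) :=
      { toFun := fun v => ((v.1.1 + μ * v.1.2 + v.2 0 + v.2 1, v.1.2), ![v.2 0 + v.2 1, v.2 1 + v.1.2])
        map_add' := fun v w => by
          refine Prod.ext (Prod.ext ?_ ?_) ?_
          · simp only [Prod.fst_add, Prod.snd_add, Pi.add_apply]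
            ring
          · rfl
          · funext i
            fin_cases i
            · simp only [Prod.fst_add, Prod.snd_add, Pi.add_apply, Fin.zero_eta, Matrix.cons_val_zero]
              ring
            · simp only [Prod.fst_add, Prod.snd_add, Pi.add_apply, Fin.mk_one, Matrix.cons_val_one,
                Matrix.cons_val_fin_one]
              ring
        map_smul' := fun c v => by
          refine Prod.ext (Prod.ext ?_ ?_) ?_
          · simp only [Prod.smul_fst, Prod.smul_snd, Pi.smul_apply, smul_eq_mul, RingHom.id_apply]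
            ring
          · rfl
          · funext i
            fin_cases i
            · simp only [Prod.smul_fst, Prod.smul_snd, Pi.smul_apply, smul_eq_mul, RingHom.id_apply, Fin.zero_eta,
                Matrix.cons_val_zero]
              ring
            · simp only [Prod.smul_fst, Prod.smul_snd, Pi.smul_apply, smul_eq_mul, RingHom.id_apply, Fin.mk_one,
                Matrix.cons_val_one, Matrix.cons_val_fin_one]
              ring }
    have hT : ∀ v, T v = ((v.1.1 + μ * v.1.2 + v.2 0 + v.2 1, v.1.2), ![v.2 0 + v.2 1, v.2 1 + v.1.2]) :=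
      fun v => rfl
    refine Elt.of (V := (F × F) × (Fin 2 → F)) (Q := sumQ (hypQ F) (binForm F 1 μ)) (g := T) (by simp)
      (sumQ_nondeg hypQ_nondeg (nondeg_of_nondegenerate (binForm_nondegenerate hμ))) ?_ ?_ (by norm_num) ?_
    · have := (hasSign_mul (F := F)).prod (hasSign_bin hμ)
      rw [one_mul] at this
      refine this.congr (Equiv.refl _) fun v => ?_
      rw [Equiv.refl_apply, sumQ_apply, binForm_apply, hypQ_apply]
    · intro v
      rw [hT, sumQ_apply, sumQ_apply, hypQ_apply, hypQ_apply, hb, hb]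
      simp only [Matrix.cons_val_zero, Matrix.cons_val_one, Matrix.cons_val_fin_one]
      linear_combination (v.1.2 ^ 2 * μ + v.2 0 * v.1.2 + v.2 1 * v.1.2 + v.2 0 * v.2 1 + v.2 1 ^ 2 +
        μ * v.2 1 * v.1.2) * h2
    · have hT2 : ∀ v, (T ^ 2) v = ((v.1.1 + v.2 1 + v.1.2, v.1.2), ![v.2 0 + v.1.2, v.2 1]) := by
        intro v
        rw [pow_two, Module.End.mul_apply, hT, hT]
        refine Prod.ext (Prod.ext ?_ ?_) ?_
        · simp only [Matrix.cons_val_zero, Matrix.cons_val_one, Matrix.cons_val_fin_one]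
          linear_combination (μ * v.1.2 + v.2 0 + v.2 1) * h2
        · rfl
        · funext i
          fin_cases i
          · simp only [Fin.zero_eta, Matrix.cons_val_zero, Matrix.cons_val_one, Matrix.cons_val_fin_one]
            linear_combination (v.2 1) * h2
          · simp only [Fin.mk_one, Matrix.cons_val_one, Matrix.cons_val_fin_one]
            linear_combination (v.1.2) * h2
      have h4 : T ^ 4 = 1 := by
        refine LinearMap.ext fun v => ?_
        rw [show (4 : ℕ) = 2 + 2 from rfl, pow_add, Module.End.mul_apply, hT2, hT2]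
        refine Prod.ext (Prod.ext ?_ ?_) ?_
        · simp only [Matrix.cons_val_one, Matrix.cons_val_fin_one, Module.End.one_apply]
          linear_combination (v.2 1 + v.1.2) * h2
        · rfl
        · funext i
          fin_cases i
          · simp only [Fin.zero_eta, Matrix.cons_val_zero, Module.End.one_apply]
            linear_combination (v.1.2) * h2
          · simp only [Fin.mk_one, Matrix.cons_val_one, Matrix.cons_val_fin_one, Module.End.one_apply]
      have : orderOf T = 2 ^ (1 + 1) := by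
        haveI : Fact (Nat.Prime 2) := ⟨Nat.prime_two⟩
        refine orderOf_eq_prime_pow (p := 2) (n := 1) ?_ ?_
        · intro h
          have h5 := hT2 ((0, 1), 0)
          rw [pow_one] at h
          rw [h] at h5
          have h6 := congrArg (fun v => v.1.1) h5
          simp at h6
        · exact h4
      rw [this]
      norm_num
  · -- odd characteristic
    have hodd : Odd (Nat.card F) := by
      classical
      letI := Fintype.ofFinite F
      rw [Nat.card_eq_fintype_card]
      have hF : ringChar F ≠ 2 := by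
        intro hc
        apply h2
        have := ringChar.Nat.cast_ringChar (R := F)
        rw [hc] at this
        exact_mod_cast this
      exact Nat.odd_iff.2 (FiniteField.odd_card_of_char_ne_two hF)
    obtain ⟨k, hk⟩ := hodd
    rcases Nat.even_or_odd k with ⟨l, hl⟩ | ⟨l, hl⟩
    · have h := (elt_hyp (F := F) (N := 4) ⟨l, by omega⟩).prod (elt_ell (F := F) (N := 1) (one_dvd _))
      rwa [one_mul, Nat.lcm_one_right] at h
    · have h := (elt_ell (F := F) (N := 4) ⟨l + 1, by omega⟩).prod (elt_one (F := F) 1)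
      rwa [mul_one, Nat.lcm_one_right] at h

/-- **order four** -/
theorem elt_four {n : ℕ} (hn : 2 ≤ n) {ε : ℤ} (hε : ε = 1 ∨ ε = -1) : Elt F n ε 4 := by
  have key : Elt F 2 ε 4 := by
    rcases hε with rfl | rfl
    · exact elt_two_plus_four
    · exact elt_two_minus_four
  rcases Nat.eq_or_lt_of_le hn with rfl | hn'
  · exact key
  · have := key.prod (elt_one (F := F) (n - 2))
    rwa [mul_one, Nat.lcm_one_right, show 2 + (n - 2) = n by omega] at this

/-- **order four in a plane**, odd characteristic -/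
theorem elt_four_one (h2 : Odd (Nat.card F)) : ∃ ε : ℤ, (ε = 1 ∨ ε = -1) ∧ Elt F 1 ε 4 := by
  have hq1 : 1 < Nat.card F := Finite.one_lt_card
  obtain ⟨k, hk⟩ := h2
  rcases Nat.even_or_odd k with ⟨l, hl⟩ | ⟨l, hl⟩
  · exact ⟨1, Or.inl rfl, elt_hyp ⟨l, by omega⟩⟩
  · exact ⟨-1, Or.inr rfl, elt_ell ⟨l + 1, by omega⟩⟩

theorem elt_two_char {p : ℕ} (hp : p.Prime) [CharP F p] : Elt F 2 1 p := by
  let T : Module.End F ((F × F) × (F × F)) :=
    { toFun := fun v => ((v.1.1 - v.2.2, v.1.2), (v.2.1 + v.1.2, v.2.2))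
      map_add' := fun v w => by
        refine Prod.ext (Prod.ext ?_ rfl) (Prod.ext ?_ rfl)
        · simp only [Prod.fst_add, Prod.snd_add]
          ring
        · simp only [Prod.fst_add, Prod.snd_add]
          ring
      map_smul' := fun c v => by
        refine Prod.ext (Prod.ext ?_ rfl) (Prod.ext ?_ rfl)
        · simp only [Prod.smul_fst, Prod.smul_snd, smul_eq_mul, RingHom.id_apply]
          ring
        · simp only [Prod.smul_fst, Prod.smul_snd, smul_eq_mul, RingHom.id_apply]
          ring }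
  have hT : ∀ (j : ℕ) (v : (F × F) × (F × F)),
      (T ^ j) v = ((v.1.1 - j * v.2.2, v.1.2), (v.2.1 + j * v.1.2, v.2.2)) := by
    intro j
    induction j with
    | zero => intro v; simp
    | succ j ih =>
      intro v
      rw [pow_succ, Module.End.mul_apply, ih]
      refine Prod.ext (Prod.ext ?_ rfl) (Prod.ext ?_ rfl)
      · change v.1.1 - v.2.2 - j * v.2.2 = v.1.1 - ((j + 1 : ℕ) : F) * v.2.2
        push_cast
        ring
      · change v.2.1 + v.1.2 + j * v.1.2 = v.2.1 + ((j + 1 : ℕ) : F) * v.1.2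
        push_cast
        ring
  have hT1 : ∀ v : (F × F) × (F × F), T v = ((v.1.1 - v.2.2, v.1.2), (v.2.1 + v.1.2, v.2.2)) := fun v => rfl
  refine Elt.of (V := (F × F) × (F × F)) (Q := sumQ (hypQ F) (hypQ F)) (g := T) (by simp)
    (sumQ_nondeg hypQ_nondeg hypQ_nondeg) ?_ ?_ hp.pos ?_
  · have := (hasSign_mul (F := F)).prod (hasSign_mul (F := F))
    rw [one_mul] at this
    exact this
  · intro v
    rw [hT1, sumQ_apply, sumQ_apply]
    simp only [hypQ_apply]
    ring
  · haveI : Fact p.Prime := ⟨hp⟩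
    refine orderOf_eq_prime_iff.2 ⟨?_, ?_⟩
    · refine LinearMap.ext fun v => ?_
      rw [hT, CharP.cast_eq_zero, zero_mul, zero_mul, sub_zero, add_zero]
      rfl
    · intro h
      have h5 := hT1 ((0, 0), (0, 1))
      rw [h] at h5
      have h6 := congrArg (fun v => v.1.1) h5
      simp at h6

/-- **order `p`** -/
theorem elt_char {p : ℕ} (hp : p.Prime) [CharP F p] {n : ℕ} (hn : 2 ≤ n) : Elt F n 1 p := by
  rcases Nat.eq_or_lt_of_le hn with rfl | hn'
  · exact elt_two_char hp
  · have := (elt_two_char (F := F) hp).prod (elt_one (F := F) (n - 2))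
    rwa [mul_one, Nat.lcm_one_right, show 2 + (n - 2) = n by omega] at this

end

end Cfsg.Agent.H377
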