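import Cfsg.Agent.H377.SporRow
import Cfsg.Agent.H377.SporBTool
import Cfsg.Agent.H377.SporBThree
import Cfsg.Agent.H478.SporBaby
import Cfsg.Agent.BpSpor.Row.B
import Cfsg.Agent.CTwoTab.BInst

/-!
# S4329, the row `B` (helper377): the elements of order 47

`ncomm` : elements of order 47 of the Baby Monster commute with no element of order 3, 5 or 7.
-/

set_option autoImplicit false
set_option maxRecDepth 100000

namespace Cfsg.Agent.H377.SporB

open Cfsg Cfsg.Agent.MonsterX Cfsg.Agent.MonsterX.InstData Cfsg.Agent.MonsterX.MainPack Cfsg.Agent.MonsterU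
open Cfsg.Agent.MonsterP Cfsg.Agent.MonsterN Cfsg.Agent.LThree Cfsg.Agent.LThreeMB
open Cfsg.Agent.MonsterX.MainBasic Cfsg.Agent.MonsterX.MainSimple Cfsg.Agent.MonsterX.Model
open Cfsg.Agent.H568
open Subgroup (centralizer mem_centralizer_singleton_iff center zpowers)

/-- the double cover `C_M(t) → B` -/
theorem cover : ∃ t : ↥InstData.M.G, IsConj (tG LitFin.all.hG LitFin.all.hR) t ∧
    Nat.card ↥(center ↥(centralizer ({t} : Set ↥InstData.M.G))) = 2 ∧
    Nonempty (↥(centralizer ({t} : Set ↥InstData.M.G)) ⧸ center ↥(centralizer ({t} : Set ↥InstData.M.G)) ≃*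
      Spor.BabyMonster) := by
  obtain ⟨⟨h1, -, ⟨e⟩⟩, -⟩ := ModelB.fieldsKS LitFin.all KDone.lnk KDone.lft (NodesGrp.prel LitFin.H)
    (NodesNe.ne LitFin.H) LitFin.conj_ten Cfsg.Agent.S1704.result KDone.lnk.x₀_mem
  obtain ⟨g, hg⟩ := ModelB.exists_conj_t LitFin.all.hG LitFin.all.hR KDone.lnk KDone.lft KDone.lnk.x₀_mem
  exact ⟨_, isConj_iff.2 ⟨g, hg⟩, h1, ⟨e⟩⟩

theorem orderOf_t {t : ↥InstData.M.G} (ht : IsConj (tG LitFin.all.hG LitFin.all.hR) t) : orderOf t = 2 :=
  MThirteen.Row.ta_order ht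

/-- elements of orders 47 and 3 of the Baby Monster do not commute -/
theorem ncomm_three {x y : Spor.BabyMonster} (hx : orderOf x = 47) (hy : orderOf y = 3) : x * y ≠ y * x := by
  have hfin : Finite ↥InstData.M.G := MThirteen.Row.finite
  obtain ⟨t, ht, h2, ⟨e⟩⟩ := cover
  refine H478.SporBaby.ncomm_quot h2 e (p := 47) (q := 3) (by norm_num) (by norm_num) (by norm_num) (by norm_num) ?_ hx hy
  intro a b ha hb hbt hab
  have h3 : ¬ Odd (Nat.card ↥(centralizer ({b} : Set ↥InstData.M.G))) := by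
    rw [Nat.not_odd_iff_even, even_iff_two_dvd, ← orderOf_t ht,
      ← Subgroup.orderOf_mk t (mem_centralizer_singleton_iff.2 hbt.symm)]
    exact orderOf_dvd_natCard _
  apply not_dvd_three hb h3
  rw [← ha, ← Subgroup.orderOf_mk a (mem_centralizer_singleton_iff.2 hab)]
  exact orderOf_dvd_natCard _

/-- an element of order 5 of `B` commuting with an involution commutes with no element of order 47 -/
theorem ncomm_five_even {x y w : Spor.BabyMonster} (hx : orderOf x = 47) (hy : orderOf y = 5) (hw : orderOf w = 2)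
    (hwy : w * y = y * w) : x * y ≠ y * x := by
  have hfin : Finite ↥InstData.M.G := MThirteen.Row.finite
  obtain ⟨t, ht, h2, ⟨e⟩⟩ := cover
  intro hxy
  obtain ⟨a, b, ha, hb, hab, hbt, h5⟩ := exists_lifts_four h2 e (p := 47) (q := 5) (by norm_num) Nat.prime_five
    (by norm_num) (by norm_num) hx hy hw hxy hwy
  obtain ⟨g, hg, -⟩ := CpAutBFive.EvenRow.exists_z_in hb ht hbt h5
  apply not_dvd_five hb ⟨g, hg⟩
  rw [← ha, ← Subgroup.orderOf_mk a (mem_centralizer_singleton_iff.2 hab)]
  exact orderOf_dvd_natCard _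

theorem card_b : Nat.card Spor.BabyMonster = 4154781481226426191177580544000000 :=
  (S1704.result : Cfsg.IsB Cfsg.Spor.BabyMonster).2

theorem finite_b : Finite Spor.BabyMonster := Nat.finite_of_card_ne_zero (by rw [card_b]; norm_num)

/-- an element of order 5 of `B` commuting with an involution -/
theorem exists_five : ∃ y w : Spor.BabyMonster, orderOf y = 5 ∧ orderOf w = 2 ∧ w * y = y * w := by
  have hfin := finite_b
  have : Fact (Nat.Prime 5) := ⟨Nat.prime_five⟩
  obtain ⟨K, _, _, _, t, X₀, σ, D, -, hc⟩ := CTwoTab.BInst.exists_sec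
  obtain ⟨y, hy⟩ := exists_prime_orderOf_dvd_card' (G := ↥(centralizer ({t} : Set Spor.BabyMonster))) 5
    (by rw [hc]; norm_num)
  have : Fact (Nat.Prime 2) := ⟨Nat.prime_two⟩
  exact ⟨y, t, by rw [Subgroup.orderOf_coe, hy], orderOf_eq_prime (by rw [pow_two, D.t_sq]) D.t_ne,
    (mem_centralizer_singleton_iff.1 y.2).symm⟩

/-- elements of orders 47 and 5 of the Baby Monster do not commute -/
theorem ncomm_five {x y : Spor.BabyMonster} (hx : orderOf x = 47) (hy : orderOf y = 5) : x * y ≠ y * x := by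
  have hfin := finite_b
  have : Fact (Nat.Prime 5) := ⟨Nat.prime_five⟩
  have : Fact (Nat.Prime 47) := ⟨by norm_num⟩
  obtain ⟨y0, w0, hy0, hw0, hc0⟩ := exists_five
  have hn0 : ¬ 47 ∣ Nat.card ↥(centralizer ({y0} : Set Spor.BabyMonster)) := by
    intro hd
    obtain ⟨u, hu⟩ := exists_prime_orderOf_dvd_card' (G := ↥(centralizer ({y0} : Set Spor.BabyMonster))) 47 hd
    exact ncomm_five_even (x := (u : Spor.BabyMonster)) (by rw [Subgroup.orderOf_coe, hu]) hy0 hw0 hc0
      (mem_centralizer_singleton_iff.1 u.2)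
  refine H296.OneElt.not_comm (p := 5) (l := 47) (by norm_num) (by rw [card_b]; norm_num) ?_ (y0 := y0)
    ⟨1, by rw [pow_one, ← hy0, pow_orderOf_eq_one]⟩ hn0 hx hy
  intro x y hx hy hxy
  by_cases ho : Odd (Nat.card ↥(centralizer ({y} : Set Spor.BabyMonster)))
  · refine inCore_of_solvable (by norm_num) (fun k hk hd => ?_) hx hxy (Cfsg.Agent.S0205.result ho)
    have hk6 : k ≤ 6 := by
      by_contra hc
      have h1 : 5 ^ 7 ∣ Nat.card Spor.BabyMonster := (pow_dvd_pow 5 (by omega)).trans hd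
      rw [card_b] at h1
      norm_num at h1
    interval_cases k <;> revert hk <;> norm_num
  · exfalso
    rw [Nat.not_odd_iff_even, even_iff_two_dvd] at ho
    have : Fact (Nat.Prime 2) := ⟨Nat.prime_two⟩
    obtain ⟨w, hw⟩ := exists_prime_orderOf_dvd_card' (G := ↥(centralizer ({y} : Set Spor.BabyMonster))) 2 ho
    exact ncomm_five_even (w := (w : Spor.BabyMonster)) hx hy (by rw [Subgroup.orderOf_coe, hw])
      (mem_centralizer_singleton_iff.1 w.2) hxy

/-- **Elements of order 47 of the Baby Monster commute with no element of order 3, 5 or 7.** -/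
theorem ncomm {p : ℕ} (h357 : p = 3 ∨ p = 5 ∨ p = 7) {x y : Spor.BabyMonster} (hx : orderOf x = 47)
    (hy : orderOf y = p) : x * y ≠ y * x := by
  rcases h357 with rfl | rfl | rfl
  · exact ncomm_three hx hy
  · exact ncomm_five hx hy
  · exact H478.SporBaby.ncomm hx hy

theorem noNorm_b {K : Type*} [Group K] [Finite K] (h : Spor.IsoB K) {p : ℕ} [hp : Fact p.Prime]
    (h357 : p = 3 ∨ p = 5 ∨ p = 7) : ∃ x : K, NoNorm p x := by
  have hcard := (BpSpor.Row.dat_b h).card
  obtain ⟨e⟩ := h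
  have : Fact (Nat.Prime 47) := ⟨by norm_num⟩
  obtain ⟨x, hx⟩ := exists_prime_orderOf_dvd_card' (G := K) 47 (by rw [hcard]; norm_num)
  refine ⟨x, SporRow.noNorm_of (l := 47) (by norm_num) hx (fun y hy hxy => ?_) 13 ?_ ?_⟩
  · refine ncomm h357 (x := e x) (y := e y) (by rw [MulEquiv.orderOf_eq, hx]) (by rw [MulEquiv.orderOf_eq, hy]) ?_
    rw [← map_mul, hxy, map_mul]
  · rw [hcard]
    rcases h357 with rfl | rfl | rfl <;> norm_num
  · rcases h357 with rfl | rfl | rfl <;> decide +kernel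

end Cfsg.Agent.H377.SporB

namespace Cfsg.Agent.H377.SporRow

open Cfsg Cfsg.Agent.H568

/-- **The row `B` of S4329.** -/
theorem row_b (K : Type*) [Group K] [Finite K] [IsSimpleGroup K] (h : Spor.IsoB K) (p : ℕ)
    [hp : Fact p.Prime] (hp2 : p ≠ 2) : Row p K := by
  refine row_of_dat (BpSpor.Row.dat_b h)
    (l := [(2, 41), (3, 13), (5, 6), (7, 2), (11, 1), (13, 1), (17, 1), (19, 1), (23, 1), (31, 1), (47, 1)])
    (by decide +kernel) (by norm_num) (fun x hx hx2 hx3 _ => ?_) hp2
  simp only [List.mem_cons, List.not_mem_nil, or_false] at hx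
  rcases hx with rfl | rfl | rfl | rfl | rfl | rfl | rfl | rfl | rfl | rfl | rfl
  · exact absurd rfl hx3
  · exact SporB.noNorm_b h (Or.inl rfl)
  · exact SporB.noNorm_b h (Or.inr (Or.inl rfl))
  · exact SporB.noNorm_b h (Or.inr (Or.inr rfl))
  · exact absurd hx2 (by norm_num)
  · exact absurd hx2 (by norm_num)
  · exact absurd hx2 (by norm_num)
  · exact absurd hx2 (by norm_num)
  · exact absurd hx2 (by norm_num)
  · exact absurd hx2 (by norm_num)
  · exact absurd hx2 (by norm_num)

end Cfsg.Agent.H377.SporRow
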