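import Cfsg.Agent.H403.ClassifyEven
import Cfsg.Agent.S2624
import Cfsg.Agent.S2616

/-!
# Gauss sums of quadratic forms over finite fields (all characteristics) and the type of a form (helper377)

Generalises `Cfsg.Agent.H403.GaussSum` (helper403) from characteristic two to arbitrary finite fields.

`HasSign Q n ε` : for every nontrivial additive character `ψ : F → ℂ` the sum of `ψ (Q v)` is `ε * q ^ n`.
Multiplicative for orthogonal sums and invariant under restriction of scalars; `ε = 1` for plus type, `-1` for minus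
type.
-/

set_option autoImplicit false
set_option linter.unusedSectionVars false
set_option linter.style.haveILetI false

namespace Cfsg.Agent.H377

open QuadraticMap
open Cfsg.Agent.LieClassical.OrthCore Cfsg.Agent.LieClassical.OrthForms
open Cfsg.Agent.H403.Classify

section Def

variable {F : Type*} [Field F] [Finite F]

/-- The Gauss sum of a function with values in `F`. -/
noncomputable def gs {V : Type*} [Finite V] (ψ : AddChar F ℂ) (Q : V → F) : ℂ :=
  letI := Fintype.ofFinite V
  ∑ v, ψ (Q v)

theorem gs_eq {V : Type*} [Fintype V] (ψ : AddChar F ℂ) (Q : V → F) : gs ψ Q = ∑ v, ψ (Q v) := by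
  rw [gs]
  congr!

theorem gs_congr {V W : Type*} [Finite V] [Finite W] (ψ : AddChar F ℂ) {Q : V → F} {Q' : W → F} (e : V ≃ W)
    (h : ∀ v, Q' (e v) = Q v) : gs ψ Q = gs ψ Q' := by
  classical
  letI := Fintype.ofFinite V
  letI := Fintype.ofFinite W
  rw [gs_eq, gs_eq]
  exact Fintype.sum_equiv e _ _ fun v => by rw [h]

theorem gs_prod {V W : Type*} [Finite V] [Finite W] (ψ : AddChar F ℂ) (Q : V → F) (Q' : W → F) :
    gs ψ (fun p : V × W => Q p.1 + Q' p.2) = gs ψ Q * gs ψ Q' := by
  letI := Fintype.ofFinite V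
  letI := Fintype.ofFinite W
  rw [gs_eq, gs_eq, gs_eq, Fintype.sum_prod_type, Finset.sum_mul_sum]
  simp only [AddChar.map_add_eq_mul]

/-- The sign of a form. -/
def HasSign {V : Type*} [Finite V] (Q : V → F) (n : ℕ) (ε : ℤ) : Prop :=
  ∀ ψ : AddChar F ℂ, ψ ≠ 1 → gs ψ Q = (ε : ℂ) * (Nat.card F : ℂ) ^ n

theorem HasSign.congr {V W : Type*} [Finite V] [Finite W] {Q : V → F} {Q' : W → F} {n : ℕ} {ε : ℤ} (h : HasSign Q n ε)
    (e : V ≃ W) (he : ∀ v, Q' (e v) = Q v) : HasSign Q' n ε := fun ψ hψ => by
  rw [← gs_congr ψ e he]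
  exact h ψ hψ

theorem HasSign.prod {V W : Type*} [Finite V] [Finite W] {Q : V → F} {Q' : W → F} {n n' : ℕ} {ε ε' : ℤ}
    (h : HasSign Q n ε) (h' : HasSign Q' n' ε') : HasSign (fun p : V × W => Q p.1 + Q' p.2) (n + n') (ε * ε') :=
  fun ψ hψ => by
    rw [gs_prod, h ψ hψ, h' ψ hψ, pow_add]
    push_cast
    ring

theorem hasSign_mul : HasSign (fun p : F × F => p.1 * p.2) 1 1 := by
  classical
  intro ψ hψ
  letI := Fintype.ofFinite F
  have hp : ψ.IsPrimitive := AddChar.IsPrimitive.of_ne_one hψ
  rw [gs_eq, Fintype.sum_prod_type_right]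
  simp only [AddChar.sum_mulShift _ hp]
  simp

theorem hasSign_zero {V : Type*} [Finite V] [Subsingleton V] [Nonempty V] (Q : V → F) (hQ : ∀ v, Q v = 0) :
    HasSign Q 0 1 := by
  intro ψ _
  letI := Fintype.ofFinite V
  rw [gs_eq]
  have h1 : Fintype.card V = 1 :=
    le_antisymm (Fintype.card_le_one_iff_subsingleton.2 inferInstance) Fintype.card_pos
  simp [hQ, h1]

/-- Restriction of scalars. -/
theorem HasSign.res {K : Type*} [Field K] [Finite K] [Algebra F K] {V : Type*} [Finite V] {Q : V → K} {n : ℕ} {ε : ℤ}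
    (h : HasSign Q n ε) : HasSign (fun v => Algebra.trace F K (Q v)) (Module.finrank F K * n) ε := by
  intro ψ hψ
  let ψ' : AddChar K ℂ := ψ.compAddMonoidHom (Algebra.trace F K).toAddMonoidHom
  have hψ' : ψ' ≠ 1 := by
    intro h1
    apply hψ
    ext x
    obtain ⟨y, rfl⟩ := Algebra.trace_surjective F K x
    have := DFunLike.congr_fun h1 y
    exact this
  have h2 := h ψ' hψ'
  have h3 : gs ψ' Q = gs ψ (fun v => Algebra.trace F K (Q v)) := rfl
  rw [← h3, h2]
  congr 1
  rw [pow_mul]
  congr 1
  rw [Module.natCard_eq_pow_finrank (K := F) (V := K), Nat.cast_pow]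

/-- There is a nontrivial additive character. -/
theorem exists_addChar (F : Type*) [Field F] [Finite F] : ∃ ψ : AddChar F ℂ, ψ ≠ 1 := by
  have h := AddChar.exists_apply_ne_zero (α := F) (a := 1)
  obtain ⟨ψ, hψ⟩ := h.2 one_ne_zero
  refine ⟨ψ, ?_⟩
  rintro rfl
  exact hψ rfl

theorem HasSign.sign_eq {V : Type*} [Finite V] {Q : V → F} {n n' : ℕ} {ε ε' : ℤ} (h : HasSign Q n ε)
    (h' : HasSign Q n' ε') (hε : ε = 1 ∨ ε = -1) (hε' : ε' = 1 ∨ ε' = -1) : ε = ε' ∧ n = n' := by
  obtain ⟨ψ, hψ⟩ := exists_addChar F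
  have h1 := (h ψ hψ).symm.trans (h' ψ hψ)
  have h2 : ε * (Nat.card F : ℤ) ^ n = ε' * (Nat.card F : ℤ) ^ n' := by exact_mod_cast h1
  have hq : 1 < Nat.card F := Finite.one_lt_card
  have hn : (0 : ℤ) < (Nat.card F : ℤ) ^ n := by positivity
  have hn' : (0 : ℤ) < (Nat.card F : ℤ) ^ n' := by positivity
  have key : (Nat.card F : ℤ) ^ n = (Nat.card F : ℤ) ^ n' → n = n' := fun h3 => by
    have h4 : Nat.card F ^ n = Nat.card F ^ n' := by exact_mod_cast h3
    exact Nat.pow_right_injective hq h4
  rcases hε with rfl | rfl <;> rcases hε' with rfl | rfl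
  · exact ⟨rfl, key (by linarith)⟩
  · exfalso; linarith
  · exfalso; linarith
  · exact ⟨rfl, key (by linarith)⟩

end Def

section Signs

variable {F : Type*} [Field F] [Finite F]

theorem hasSign_plusForm (m : ℕ) : HasSign (⇑(plusForm m F)) m 1 := by
  induction m with
  | zero =>
    exact hasSign_zero _ fun v => by
      rw [Subsingleton.elim v 0, QuadraticMap.map_zero]
  | succ m ih =>
    have h := ih.prod (hasSign_mul (F := F))
    rw [one_mul] at h
    refine h.congr (Cfsg.Agent.LieClassical.QuadForms.plusStep m F).toEquiv fun v => ?_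
    rw [plusForm_eq, plusForm_eq]
    exact Cfsg.Agent.LieClassical.QuadForms.plusForm_plusStep m v.1 v.2.1 v.2.2

/-- the binary form as a quadratic form on `Fin 2 → F` -/
def binForm (F : Type*) [Field F] (a b : F) : QuadraticForm F (Fin 2 → F) :=
  QuadraticMap.linMulLin (LinearMap.proj 0) (LinearMap.proj 0)
    + a • QuadraticMap.linMulLin (LinearMap.proj 0) (LinearMap.proj 1)
    + b • QuadraticMap.linMulLin (LinearMap.proj 1) (LinearMap.proj 1)

theorem binForm_apply (a b : F) (z : Fin 2 → F) : binForm F a b z = bin a b z := by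
  simp only [binForm, bin, QuadraticMap.add_apply, QuadraticMap.smul_apply, QuadraticMap.linMulLin_apply,
    LinearMap.proj_apply, smul_eq_mul]
  ring

theorem coe_binForm (a b : F) : ⇑(binForm F a b) = bin a b := funext (binForm_apply a b)

theorem nondegenerate_of_nondeg {V : Type*} [AddCommGroup V] [Module F V] {Q : QuadraticForm F V} (h : Nondeg Q) :
    (polarBilin Q).Nondegenerate := by
  refine ⟨fun x hx => h x fun y => hx y, fun x hx => h x fun y => ?_⟩
  rw [polar_comm]
  exact hx y

theorem binForm_nondegenerate {a b : F} (hab : Aniso a b) : (polarBilin (binForm F a b)).Nondegenerate := by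
  have h0 := nondeg_minusForm 0 F a b hab
  refine nondegenerate_of_nondeg ?_
  intro x hx
  let e : (Fin 2 → F) → ((Fin 0 ⊕ Fin 0) ⊕ Fin 2 → F) := fun z => Sum.elim (fun _ => 0) z
  have he : ∀ z, minusForm 0 F a b (e z) = bin a b z := by
    intro z
    rw [coe_minusForm, quadFormMinus_apply]
    simp [bin, e]
  have hadd : ∀ z w, e (z + w) = e z + e w := by
    intro z w
    funext i
    rcases i with i | i
    · simp [e]
    · simp [e]
  have hsurj : ∀ w : (Fin 0 ⊕ Fin 0) ⊕ Fin 2 → F, ∃ z, e z = w := by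
    intro w
    refine ⟨fun i => w (.inr i), ?_⟩
    funext i
    rcases i with (i | i) | i
    · exact i.elim0
    · exact i.elim0
    · rfl
  have h1 : e x = 0 := by
    apply h0
    intro w
    obtain ⟨z, rfl⟩ := hsurj w
    have := hx z
    simp only [polar, binForm_apply] at this
    simp only [polar, ← hadd, he]
    exact this
  funext i
  have := congrFun h1 (.inr i)
  exact this

theorem hasSign_bin {a b : F} (hab : Aniso a b) : HasSign (bin a b) 1 (-1) := by
  classical
  intro ψ hψ
  letI := Fintype.ofFinite F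
  have hp : ψ.IsPrimitive := AddChar.IsPrimitive.of_ne_one hψ
  rw [gs_eq]
  have h1 : ∀ c : F, ∑ z : Fin 2 → F, ψ (c * bin a b z) = if c = 0 then ((Fintype.card F : ℂ)) ^ 2 else
      ∑ z : Fin 2 → F, ψ (bin a b z) := by
    intro c
    split_ifs with hc
    · simp [hc]
    · obtain ⟨g, hg⟩ := Cfsg.Agent.S2624.result (n := 2) le_rfl even_two (binForm F a b) (binForm_nondegenerate hab)
        c hc
      refine Fintype.sum_equiv g.toEquiv _ _ fun z => ?_
      congr 1
      have := hg z
      rw [binForm_apply, binForm_apply] at this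
      exact this.symm
  have h2 : ∑ c : F, ∑ z : Fin 2 → F, ψ (c * bin a b z) = (Fintype.card F : ℂ) := by
    rw [Finset.sum_comm]
    have h3 : ∀ z : Fin 2 → F, ∑ c : F, ψ (c * bin a b z) = if z = 0 then (Fintype.card F : ℂ) else 0 := by
      intro z
      rw [AddChar.sum_mulShift _ hp]
      have h4 : bin a b z = 0 ↔ z = 0 := by
        constructor
        · intro h
          obtain ⟨h5, h6⟩ := hab _ _ h
          funext i
          fin_cases i
          · exact h5
          · exact h6
        · rintro rfl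
          simp [bin]
      simp only [h4]
      split_ifs <;> simp
    simp only [h3]
    simp
  rw [Finset.sum_congr rfl fun c _ => h1 c] at h2
  rw [← Finset.add_sum_erase _ _ (Finset.mem_univ (0 : F)), if_pos rfl] at h2
  rw [Finset.sum_congr rfl (fun c hc => if_neg (Finset.ne_of_mem_erase hc))] at h2
  rw [Finset.sum_const, Finset.card_erase_of_mem (Finset.mem_univ _), Finset.card_univ, nsmul_eq_mul,
    Nat.cast_sub Fintype.card_pos, Nat.cast_one] at h2
  have hq : 1 < Fintype.card F := Fintype.one_lt_card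
  have hq' : ((Fintype.card F : ℂ) - 1) ≠ 0 := by
    intro h
    have h3 : (Fintype.card F : ℂ) = 1 := by linear_combination h
    have h4 : Fintype.card F = 1 := by exact_mod_cast h3
    omega
  rw [Nat.card_eq_fintype_card, pow_one]
  apply mul_left_cancel₀ hq'
  push_cast
  linear_combination h2

theorem hasSign_minusForm (m : ℕ) {a b : F} (hab : Aniso a b) :
    HasSign (⇑(minusForm m F a b)) (m + 1) (-1) := by
  induction m with
  | zero =>
    rw [zero_add]
    refine (hasSign_bin hab).congr (Equiv.arrowCongr (Equiv.emptySum (Fin 0 ⊕ Fin 0) (Fin 2)).symm (Equiv.refl F))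
      fun v => ?_
    rw [coe_minusForm, quadFormMinus_apply]
    simp [bin]
  | succ m ih =>
    have h := ih.prod (hasSign_mul (F := F))
    rw [mul_one] at h
    refine h.congr (Cfsg.Agent.LieClassical.QuadForms.minusStep m F).toEquiv fun v => ?_
    rw [minusForm_eq, minusForm_eq]
    exact Cfsg.Agent.LieClassical.QuadForms.minusForm_minusStep m a b v.1 v.2.1 v.2.2

end Signs

end Cfsg.Agent.H377
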