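import Cfsg.Agent.H377.SporRow
import Cfsg.Agent.BpSpor.Row.Fi23
import Cfsg.Agent.H839.SeventeenMain

/-!
# S4329, the row `Fi23` (helper377): the elements of order 17 are self-centralising
-/

set_option autoImplicit false

namespace Cfsg.Agent.H377.SporRow

open Subgroup Cfsg.Agent.H568 Cfsg

theorem noNorm_fi23 {K : Type*} [Group K] [Finite K] (h : Spor.IsoFi23 K) {p : ℕ} [hp : Fact p.Prime]
    (h35 : p = 3 ∨ p = 5) : ∃ x : K, NoNorm p x := by
  have hcard := (BpSpor.Row.dat_fi23 h).card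
  obtain ⟨e⟩ := h
  have : Fact (Nat.Prime 17) := ⟨by norm_num⟩
  obtain ⟨x, hx⟩ := exists_prime_orderOf_dvd_card' (G := K) 17 (by rw [hcard]; norm_num)
  have hX : Nat.card ↥(zpowers x) = 17 := by rw [Nat.card_zpowers, hx]
  have h1 := (Cfsg.Agent.H839.Fi23.SC.map_all e.symm Cfsg.Agent.H839.Fi23.seventeen_main _ hX).2
  refine ⟨x, noNorm_of (l := 17) (by norm_num) hx
    (not_comm_of_selfcent (l := 17) hp.1 (by norm_num) (by omega) (by rw [h1, hX])) 13 ?_ ?_⟩
  · rw [hcard]
    rcases h35 with rfl | rfl <;> norm_num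
  · rcases h35 with rfl | rfl <;> decide +kernel

/-- **The row `Fi23` of S4329.** -/
theorem row_fi23 (K : Type*) [Group K] [Finite K] [IsSimpleGroup K] (h : Spor.IsoFi23 K) (p : ℕ) [hp : Fact p.Prime]
    (hp2 : p ≠ 2) : Row p K := by
  refine row_of_dat (BpSpor.Row.dat_fi23 h)
    (l := [(2, 18), (3, 13), (5, 2), (7, 1), (11, 1), (13, 1), (17, 1), (23, 1)]) (by decide +kernel)
    (by norm_num) (fun x hx hx2 hx3 _ => ?_) hp2
  simp only [List.mem_cons, List.not_mem_nil, or_false] at hx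
  rcases hx with rfl | rfl | rfl | rfl | rfl | rfl | rfl | rfl
  · exact absurd rfl hx3
  · exact noNorm_fi23 h (Or.inl rfl)
  · exact noNorm_fi23 h (Or.inr rfl)
  · exact absurd hx2 (by norm_num)
  · exact absurd hx2 (by norm_num)
  · exact absurd hx2 (by norm_num)
  · exact absurd hx2 (by norm_num)
  · exact absurd hx2 (by norm_num)

end Cfsg.Agent.H377.SporRow
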